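import Cfsg.Agent.Lib.Goldschmidt.Defs
import Cfsg.Agent.Lib.CI.Quotient
import Cfsg.Agent.Lib.Char.ZStarElement

/-!
# A strongly closed elementary subgroup normalises the components

A component moved by such a subgroup would have only isolated involutions modulo its centre; and a component which it
meets in the centre is centralised, by Glauberman's theorem.
-/

set_option autoImplicit false
set_option linter.style.haveILetI false
set_option linter.unusedSectionVars false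

namespace Cfsg.Agent.Goldschmidt

open Subgroup Cfsg.Agent Cfsg.Agent.Fusion
open Cfsg.Agent.Local.SCA (SC)

universe u

variable {Y : Type u} [Group Y] [Finite Y] {B : Subgroup Y}

/-- An abelian strongly closed 2-subgroup of a group without odd core. -/
structure AbHyp (Y : Type u) [Group Y] [Finite Y] (B : Subgroup Y) : Prop where
  core : Cfsg.oddCore Y = ⊥
  ab : IsMulCommutative ↥B
  sc : SC B

namespace AbHyp

variable (hY : AbHyp Y B)
include hY

theorem mem_comm {a b : Y} (ha : a ∈ B) (hb : b ∈ B) : a * b = b * a :=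
  congrArg Subtype.val (hY.ab.is_comm.comm (⟨a, ha⟩ : B) ⟨b, hb⟩)

theorem pGroup : IsPGroup 2 B := hY.sc.isPGroup

variable {S : Sylow 2 Y} (hBS : B ≤ (S : Subgroup Y))
include hBS

theorem closed {a g : Y} (ha : a ∈ B) (h : g * a * g⁻¹ ∈ (S : Subgroup Y)) : g * a * g⁻¹ ∈ B :=
  (hY.sc.closed_in hBS).2 a ha g h

theorem sylow_conj {s a : Y} (hs : s ∈ (S : Subgroup Y)) (ha : a ∈ B) : s * a * s⁻¹ ∈ B :=
  hY.closed hBS ha (mul_mem (mul_mem hs (hBS ha)) (inv_mem hs))

/-- **No component is moved.** -/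
theorem normalises {L : Subgroup Y} (hL : Cfsg.IsComponent L) {b : Y} (hb : b ∈ B) :
    b ∈ normalizer (L : Set Y) := by
  by_contra hn
  have hne : L.map (MulAut.conj b).toMonoidHom ≠ L := fun e => hn (mem_normalizer_iff_cj.2 e)
  have hcom := commutator_eq_bot_iff_le_centralizer.1
    (Solv.components_commute hL (Solv.component_conj hL b) hne.symm)
  have hP := CI.comp_sylIn hL S
  have hconj : ∀ x ∈ L, ∀ g ∈ L, g * (b * x * b⁻¹) = b * x * b⁻¹ * g := fun x hx g hg =>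
    (mem_centralizer_iff.1 (hcom hg) _ ⟨x, hx, rfl⟩).symm
  have hBL : ∀ e ∈ B, e ∈ L → ∀ g ∈ L, g * e = e * g := fun e he heL g hg => by
    have h := hconj e heL g hg
    rwa [show b * e * b⁻¹ = e by rw [hY.mem_comm hb he, mul_inv_cancel_right]] at h
  haveI : Finite L := Subtype.finite
  set Z := Subgroup.center L with hZ
  haveI : IsSimpleGroup (L ⧸ Z) := hL.2.2
  set π := QuotientGroup.mk' Z with hπ
  have hπs : Function.Surjective π := QuotientGroup.mk'_surjective Z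
  obtain ⟨P, hPe⟩ := hP.exists_sylow_subgroupOf
  have hmP : ∀ x : L, x ∈ (P : Subgroup L) ↔ (x : Y) ∈ (S : Subgroup Y) := fun x => by
    rw [hPe, mem_subgroupOf]; exact ⟨fun h => h.1, fun h => ⟨h, x.2⟩⟩
  set P' := Sylow.mapSurjective hπs P with hP'
  have hPm : (P' : Subgroup (L ⧸ Z)) = (P : Subgroup L).map π := Sylow.coe_mapSurjective hπs P
  have hiso : ∀ x g : L, x ∈ (P : Subgroup L) → g * x * g⁻¹ ∈ (P : Subgroup L) → π (g * x * g⁻¹) = π x := by
    intro x g hx hy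
    rw [hmP] at hx hy
    set y : Y := ((g * x * g⁻¹ : L) : Y) with hydef
    have hxi : b * (x : Y)⁻¹ * b⁻¹ ∈ (S : Subgroup Y) :=
      mul_mem (mul_mem (hBS hb) (inv_mem hx)) (inv_mem (hBS hb))
    have hc : (x : Y) * (b * (x : Y)⁻¹ * b⁻¹) ∈ B := by
      have := mul_mem (hY.sylow_conj hBS hx hb) (inv_mem hb)
      rwa [show (x : Y) * b * (x : Y)⁻¹ * b⁻¹ = (x : Y) * (b * (x : Y)⁻¹ * b⁻¹) by group] at this
    have he : (g : Y) * ((x : Y) * (b * (x : Y)⁻¹ * b⁻¹)) * (g : Y)⁻¹ = y * (b * (x : Y)⁻¹ * b⁻¹) := by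
      rw [hydef]
      push_cast
      have := hconj _ (inv_mem x.2) _ (inv_mem g.2)
      calc (g : Y) * ((x : Y) * (b * (x : Y)⁻¹ * b⁻¹)) * (g : Y)⁻¹
          = g * x * ((b * (x : Y)⁻¹ * b⁻¹) * (g : Y)⁻¹) := by group
        _ = _ := by rw [← this]; group
    have h1 : y * (b * (x : Y)⁻¹ * b⁻¹) ∈ B := he ▸ hY.closed hBS hc (he.symm ▸ mul_mem hy hxi)
    have h2 : y * (x : Y)⁻¹ ∈ B := by
      have := mul_mem h1 (inv_mem hc)
      rwa [show y * (b * (x : Y)⁻¹ * b⁻¹) * ((x : Y) * (b * (x : Y)⁻¹ * b⁻¹))⁻¹ = y * (x : Y)⁻¹ by group] at this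
    have h3 : g * x * g⁻¹ * x⁻¹ ∈ Z := Subgroup.mem_center_iff.2 fun k => Subtype.ext
      (hBL _ h2 (mul_mem (g * x * g⁻¹).2 (inv_mem x.2)) k k.2)
    have h4 : π (g * x * g⁻¹ * x⁻¹) = 1 := (QuotientGroup.eq_one_iff _).2 h3
    rwa [map_mul, map_inv, mul_inv_eq_one] at h4
  have hZP : Z ≤ (P : Subgroup L) := (CI.comp_center_two hL hY.core).le_sylow_of_normal P
  have hcentral : ∀ x ∈ (P : Subgroup L), x ∈ Z := by
    intro x hx
    have hmem : ∀ z, π z ∈ (P' : Subgroup (L ⧸ Z)) → z ∈ (P : Subgroup L) := fun z hz => by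
      rw [hPm] at hz
      obtain ⟨w, hw, e⟩ := hz
      have := mul_mem hw (hZP (QuotientGroup.eq.1 e))
      rwa [mul_inv_cancel_left] at this
    have h := Char.isolatedElt_central (S := P') (x := π x) (hPm ▸ mem_map_of_mem π hx) (by
      intro y hy g hg
      obtain ⟨i, rfl⟩ := mem_zpowers_iff.1 hy
      obtain ⟨g, rfl⟩ := hπs g
      rw [← map_zpow, ← map_inv, ← map_mul, ← map_mul] at hg ⊢
      exact hiso _ g (zpow_mem hx i) (hmem _ hg))
    rw [CI.simple_core (CI.quotient_center_nonab hL.2)] at h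
    refine Subgroup.mem_center_iff.2 fun g => ?_
    -- commuting modulo the centre with everything
    have hc : π x ∈ Subgroup.center (L ⧸ Z) := Subgroup.mem_center_iff.2 fun w => by
      have h5 := h w
      rw [mem_bot, mul_inv_eq_one, mul_inv_eq_iff_eq_mul] at h5
      exact h5.symm
    have hb0 : π x = 1 := by
      rcases (inferInstance : (Subgroup.center (L ⧸ Z)).Normal).eq_bot_or_eq_top with e | e
      · rwa [e, mem_bot] at hc
      · exact absurd ⟨⟨fun u v => Subgroup.mem_center_iff.1 (e.symm.le (mem_top v) : v ∈ Subgroup.center (L ⧸ Z)) u⟩⟩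
          (CI.quotient_center_nonab hL.2)
    exact Subgroup.mem_center_iff.1 ((QuotientGroup.eq_one_iff _).1 hb0) g
  refine CI.comp_not_norm hL S fun k hk => mem_normalizer_of_cj_le ?_
  rintro _ ⟨x, hx, rfl⟩
  have hc := Subgroup.mem_center_iff.1 (hcentral ⟨x, hx.2⟩ ((hmP _).2 hx.1)) ⟨k, hk⟩
  show k * x * k⁻¹ ∈ _
  rw [show k * x = x * k from congrArg Subtype.val hc, mul_inv_cancel_right]
  exact hx

/-- **A component meeting `B` in the centre is centralised.** -/
theorem centralises {L : Subgroup Y} (hL : Cfsg.IsComponent L)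
    (hZ : ∀ e ∈ B, e ∈ L → ∀ g ∈ L, g * e = e * g) : B ≤ centralizer (L : Set Y) := by
  classical
  have hBN : B ≤ normalizer (L : Set Y) := fun b hb => hY.normalises hBS hL hb
  set X := L ⊔ B with hX
  have hXN : X ≤ normalizer (L : Set Y) := sup_le le_normalizer hBN
  have hmemX : ∀ x ∈ X, ∃ l ∈ L, ∃ c ∈ B, x = l * c := fun x hx => by
    rw [hX, ← SetLike.mem_coe, coe_mul_of_right_le_normalizer_left _ _ hBN] at hx
    obtain ⟨l, hl, c, hc, e⟩ := hx
    exact ⟨l, hl, c, hc, e.symm⟩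
  haveI : Fact (Nat.Prime 2) := ⟨Nat.prime_two⟩
  obtain ⟨T, hT, hBT⟩ := exists_sylIn_ge hY.pGroup (le_sup_right : B ≤ X)
  obtain ⟨S₁, hS₁⟩ := hT.isPGroup.exists_le_sylow
  have hBS₁ : B ≤ (S₁ : Subgroup Y) := hBT.trans hS₁
  set ZY := (Subgroup.center L).map L.subtype with hZY
  have hZmem : ∀ z, z ∈ ZY ↔ z ∈ L ∧ ∀ g ∈ L, g * z = z * g := fun z => by
    constructor
    · rintro ⟨w, hw, rfl⟩
      exact ⟨w.2, fun g hg => congrArg Subtype.val (Subgroup.mem_center_iff.1 hw ⟨g, hg⟩)⟩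
    · rintro ⟨h1, h2⟩
      exact ⟨⟨z, h1⟩, Subgroup.mem_center_iff.2 fun g => Subtype.ext (h2 g g.2), rfl⟩
  have hLn : ∀ x ∈ X, ∀ g, g ∈ L → x * g * x⁻¹ ∈ L := fun x hx g hg =>
    (mem_normalizer_iff.1 (hXN hx) g).1 hg
  set Z := ZY.subgroupOf X with hZdef
  haveI : Z.Normal := ⟨fun z hz x => by
    obtain ⟨hz1, hz2⟩ := (hZmem _).1 (mem_subgroupOf.1 hz)
    refine mem_subgroupOf.2 ((hZmem _).2 ⟨hLn x x.2 _ hz1, fun g hg => ?_⟩)
    have h := hz2 _ (hLn _ (inv_mem x.2) g hg)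
    show g * ((x : Y) * (z : X) * (x : Y)⁻¹) = (x : Y) * (z : X) * (x : Y)⁻¹ * g
    calc g * ((x : Y) * (z : X) * (x : Y)⁻¹)
        = (x : Y) * (((x : Y)⁻¹ * g * (x : Y)⁻¹⁻¹) * (z : X)) * (x : Y)⁻¹ := by group
      _ = _ := by rw [h]; group⟩
  set π := QuotientGroup.mk' Z with hπ
  have hπs : Function.Surjective π := QuotientGroup.mk'_surjective Z
  obtain ⟨P, hPe⟩ := hT.exists_sylow_subgroupOf
  have hmP : ∀ x : X, x ∈ (P : Subgroup X) ↔ (x : Y) ∈ T := fun x => by rw [hPe, mem_subgroupOf]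
  have hZ2 : IsPGroup 2 Z := fun z => by
    obtain ⟨hz1, hz2⟩ := (hZmem _).1 (mem_subgroupOf.1 z.2)
    obtain ⟨j, hj⟩ := CI.comp_center_two hL hY.core ⟨⟨_, hz1⟩, Subgroup.mem_center_iff.2 fun g =>
      Subtype.ext (hz2 g g.2)⟩
    exact ⟨j, Subtype.ext (Subtype.ext (by simpa using congrArg (fun w : Subgroup.center L => ((w : L) : Y)) hj))⟩
  have hZP : Z ≤ (P : Subgroup X) := hZ2.le_sylow_of_normal P
  set P' := Sylow.mapSurjective hπs P with hP'
  have hPm : (P' : Subgroup (X ⧸ Z)) = (P : Subgroup X).map π := Sylow.coe_mapSurjective hπs P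
  intro b hb
  set β : X := ⟨b, le_sup_right (a := L) hb⟩ with hβ
  have hiso : ∀ c : X, (c : Y) ∈ B → ∀ g : X, π (g * c * g⁻¹) ∈ (P' : Subgroup (X ⧸ Z)) →
      π (g * c * g⁻¹) = π c := by
    intro c hc g hg
    have hgT : ((g * c * g⁻¹ : X) : Y) ∈ T := by
      rw [hPm] at hg
      obtain ⟨w, hw, e⟩ := hg
      have := mul_mem hw (hZP (QuotientGroup.eq.1 e))
      rw [mul_inv_cancel_left] at this
      exact (hmP _).1 this
    have hB' : ((g * c * g⁻¹ : X) : Y) ∈ B := by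
      push_cast at hgT ⊢
      exact hY.closed hBS₁ hc (hS₁ hgT)
    have h4 : π (g * c * g⁻¹ * c⁻¹) = 1 := by
      refine (QuotientGroup.eq_one_iff _).2 (mem_subgroupOf.2 ((hZmem _).2 ?_))
      have hmB : ((g * c * g⁻¹ * c⁻¹ : X) : Y) ∈ B := mul_mem hB' (inv_mem hc)
      have hmL : ((g * c * g⁻¹ * c⁻¹ : X) : Y) ∈ L := by
        obtain ⟨l, hl, e, he, hg'⟩ := hmemX g g.2
        push_cast
        have := mul_mem hl (hLn _ c.2 _ (inv_mem hl))
        rwa [show l * ((c : Y) * l⁻¹ * (c : Y)⁻¹) = (g : Y) * c * (g : Y)⁻¹ * (c : Y)⁻¹ by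
          rw [hg', show l * e * c * (l * e)⁻¹ = l * (e * c) * e⁻¹ * l⁻¹ by group, hY.mem_comm he hc]
          group] at this
      exact ⟨hmL, hZ _ hmB hmL⟩
    rwa [map_mul, map_inv, mul_inv_eq_one] at h4
  have h := Char.isolatedElt_central (S := P') (x := π β) (hPm ▸ mem_map_of_mem π ((hmP _).2 (hBT hb))) (by
    intro y hy g hg
    obtain ⟨i, rfl⟩ := mem_zpowers_iff.1 hy
    obtain ⟨g, rfl⟩ := hπs g
    rw [← map_zpow, ← map_inv, ← map_mul, ← map_mul] at hg ⊢
    exact hiso _ (zpow_mem hb i) g hg)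
  -- the odd core misses the component
  set O := (Cfsg.oddCore (X ⧸ Z)).comap π with hO
  let ι : L →* X := Subgroup.inclusion le_sup_left
  rcases Solv.qs_normal_le_center_or_top hL.2 (O.comap ι) with htop | hcen
  · exfalso
    have hL2 : Odd (Nat.card ((⊤ : Subgroup L).map (π.comp ι))) := by
      refine (Char.card_oddCore_odd (X ⧸ Z)).of_dvd_nat (Subgroup.card_dvd_of_le ?_)
      rintro _ ⟨l, -, rfl⟩
      exact (htop.symm.le (mem_top l) : l ∈ O.comap ι)
    haveI : Group.IsSolvable ((⊤ : Subgroup L).map (π.comp ι)) := Bender.AbelianSolvable.odd_solvable' hL2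
    haveI := hL.2.1
    have hker : (π.comp ι).ker ≠ ⊤ := by
      intro e
      refine Solv.qs_center_ne_top hL.2 (eq_top_iff.2 fun l _ => Subgroup.mem_center_iff.2 fun g => Subtype.ext ?_)
      have h1 : ι l ∈ Z := (QuotientGroup.eq_one_iff _).1 (e.symm.le (mem_top l) : l ∈ (π.comp ι).ker)
      exact ((hZmem _).1 (mem_subgroupOf.1 h1)).2 g g.2
    set R := (⊤ : Subgroup L).map (π.comp ι) with hR
    have hperf : ⁅R, R⁆ = R := by
      rw [hR, ← Subgroup.map_commutator]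
      congr 1
      rw [← _root_.commutator_def, Group.IsPerfect.commutator_eq_top]
    haveI : Group.IsPerfect R := ⟨by
      refine Subgroup.map_injective R.subtype_injective ?_
      rw [_root_.commutator_def, Subgroup.map_commutator, ← MonoidHom.range_eq_map, Subgroup.range_subtype, hperf]⟩
    have hbot : (⊤ : Subgroup R) = ⊥ := Walter.perfect_eq_bot (by
      rw [← _root_.commutator_def, Group.IsPerfect.commutator_eq_top])
    refine hker ?_
    rw [eq_top_iff]
    intro l _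
    exact congrArg Subtype.val ((eq_bot_iff.1 hbot) (mem_top (⟨π (ι l), mem_map_of_mem _ (mem_top l)⟩ : R)))
  -- the commutator is central, so trivial
  have hz : ∀ l : L, b * l * b⁻¹ * (l : Y)⁻¹ ∈ ZY := by
    intro l
    have h1 : β * ι l * β⁻¹ * (ι l)⁻¹ ∈ O := by
      rw [hO, mem_comap, map_mul, map_mul, map_mul, map_inv, map_inv]
      exact h _
    have h2 : b * l * b⁻¹ * (l : Y)⁻¹ ∈ L := mul_mem (hLn b (le_sup_right (a := L) hb) _ l.2) (inv_mem l.2)
    have h3 : (⟨_, h2⟩ : L) ∈ O.comap ι := h1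
    exact ⟨_, hcen h3, rfl⟩
  let φ : L →* Subgroup.center L := MonoidHom.mk'
    (fun l => ⟨⟨b * l * b⁻¹ * (l : Y)⁻¹, ((hZmem _).1 (hz l)).1⟩, Subgroup.mem_center_iff.2 fun g => Subtype.ext
      (((hZmem _).1 (hz l)).2 g g.2)⟩) fun l m => Subtype.ext (Subtype.ext (by
        show b * ((l * m : L) : Y) * b⁻¹ * ((l * m : L) : Y)⁻¹ = b * l * b⁻¹ * (l : Y)⁻¹ * (b * m * b⁻¹ * (m : Y)⁻¹)
        push_cast
        have := ((hZmem _).1 (hz m)).2 _ (inv_mem l.2)
        calc b * ((l : Y) * m) * b⁻¹ * ((l : Y) * m)⁻¹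
            = b * l * b⁻¹ * ((b * m * b⁻¹ * (m : Y)⁻¹) * (l : Y)⁻¹) := by group
          _ = _ := by rw [← this]; group))
  haveI := hL.2.1
  have hφ : commutator L ≤ φ.ker := by
    rw [_root_.commutator_def, Subgroup.commutator_le]
    intro x _ y _
    rw [MonoidHom.mem_ker, map_commutatorElement, commutatorElement_eq_one_iff_commute]
    exact Subtype.ext ((Subgroup.mem_center_iff.1 (φ y).2 _))
  rw [Group.IsPerfect.commutator_eq_top] at hφ
  refine mem_centralizer_iff.2 fun l hl => ?_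
  have := congrArg (fun w : Subgroup.center L => ((w : L) : Y)) (MonoidHom.mem_ker.1 (hφ (mem_top (⟨l, hl⟩ : L))))
  change b * l * b⁻¹ * l⁻¹ = 1 at this
  rw [mul_inv_eq_one, mul_inv_eq_iff_eq_mul] at this
  exact this.symm

end AbHyp

namespace LocalHyp

variable (hY : LocalHyp Y B)
include hY

theorem abHyp : AbHyp Y B := ⟨hY.core, hY.elem.1, hY.sc⟩

theorem mem_comm {a b : Y} (ha : a ∈ B) (hb : b ∈ B) : a * b = b * a :=
  congrArg Subtype.val (hY.elem.1.is_comm.comm (⟨a, ha⟩ : B) ⟨b, hb⟩)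

theorem mul_self {b : Y} (hb : b ∈ B) : b * b = 1 := by rw [← pow_two]; exact hY.elem.2 b hb

theorem inv_eq {b : Y} (hb : b ∈ B) : b⁻¹ = b := inv_eq_of_mul_eq_one_left (hY.mul_self hb)

theorem pGroup : IsPGroup 2 B := fun b => ⟨1, Subtype.ext (by simpa using hY.elem.2 b b.2)⟩

theorem exists_sylow : ∃ S : Sylow 2 Y, B ≤ (S : Subgroup Y) := hY.pGroup.exists_le_sylow

variable {S : Sylow 2 Y} (hBS : B ≤ (S : Subgroup Y))
include hBS

theorem closed {a g : Y} (ha : a ∈ B) (h : g * a * g⁻¹ ∈ (S : Subgroup Y)) : g * a * g⁻¹ ∈ B :=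
  (hY.sc.closed_in hBS).2 a ha g h

theorem sylow_conj {s a : Y} (hs : s ∈ (S : Subgroup Y)) (ha : a ∈ B) : s * a * s⁻¹ ∈ B :=
  hY.closed hBS ha (mul_mem (mul_mem hs (hBS ha)) (inv_mem hs))

/-- **No component is moved.** -/
theorem normalises {L : Subgroup Y} (hL : Cfsg.IsComponent L) {b : Y} (hb : b ∈ B) :
    b ∈ normalizer (L : Set Y) :=
  hY.abHyp.normalises hBS hL hb

/-- **A component meeting `B` in the centre is centralised.** -/
theorem centralises {L : Subgroup Y} (hL : Cfsg.IsComponent L)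
    (hZ : ∀ e ∈ B, e ∈ L → ∀ g ∈ L, g * e = e * g) : B ≤ centralizer (L : Set Y) :=
  hY.abHyp.centralises hBS hL hZ

end LocalHyp

end Cfsg.Agent.Goldschmidt
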