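import Cfsg.Agent.Lib.SECrit.CaseI.CtxFacts
import Cfsg.Agent.Lib.Lie.SplitRankOne.CubeMain

/-!
# Automorphisms of a simple rank-one set-up fixing the involutions of a point stabiliser

An automorphism that normalises `Q`, fixes the involutions of `Q` and is trivial modulo them is conjugation by an
element of `Q`: after an adjustment it centralises the two-point stabiliser, and the difference is then an equivariant
map from `Q` to its involutions, which vanishes.
-/

set_option autoImplicit false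
set_option linter.style.haveILetI false
set_option linter.unusedSectionVars false

namespace Cfsg.Agent.Lie.R1C

open Cfsg MulAction
open Cfsg.Agent.Lie.R1 (D)

variable {G Ω : Type*} [Group G] [MulAction G Ω] [Finite G] [IsSimpleGroup G] [FaithfulSMul G Ω] {a : Ω} {t : G}
  {Q : Subgroup G}

namespace Ctx

variable (hc : Ctx G Ω a t Q)
include hc

/-- An element of odd order that fixes `x` modulo the involutions and fixes the involutions fixes `x`. -/
theorem fix_of_fix_mod {u x z : G} (hodd : Odd (orderOf u)) (hz : z ∈ zg G a) (hu : u * z = z * u)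
    (h : u * x * u⁻¹ = x * z) : u * x * u⁻¹ = x := by
  have hn : ∀ n : ℕ, u ^ n * x * (u ^ n)⁻¹ = x * z ^ n := by
    intro n
    induction n with
    | zero => simp
    | succ n ih =>
      have hcz : u * z ^ n * u⁻¹ = z ^ n := by rw [(Commute.pow_right hu n).eq, mul_inv_cancel_right]
      calc u ^ (n + 1) * x * (u ^ (n + 1))⁻¹ = u * (u ^ n * x * (u ^ n)⁻¹) * u⁻¹ := by rw [pow_succ']; group
        _ = (u * x * u⁻¹) * (u * z ^ n * u⁻¹) := by rw [ih]; group
        _ = x * z ^ (n + 1) := by rw [h, hcz, pow_succ', mul_assoc]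
  have h1 := hn (orderOf u)
  rw [pow_orderOf_eq_one, one_mul, inv_one, mul_one, left_eq_mul] at h1
  obtain ⟨k, hk⟩ := hodd
  rw [hk, pow_succ, pow_mul, pow_two, hc.zg_sq hz, one_pow, one_mul] at h1
  rw [h, h1, mul_one]

/-- An element of the two-point stabiliser centralising `Q` is trivial. -/
theorem eq_one_of_cent_Q {u : G} (hu : u ∈ D G a t) (h : ∀ x ∈ Q, u * x = x * u) : u = 1 := by
  refine eq_of_smul_eq_smul (α := Ω) fun b => ?_
  rw [one_smul]
  by_cases hb : b = a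
  · rw [hb]; exact (Subgroup.mem_inf.1 hu).1
  obtain ⟨q, hq, rfl⟩ := R1.exists_q hc.hS hb
  rw [← mul_smul, h q hq, mul_smul, show u • (t • a) = t • a from (Subgroup.mem_inf.1 hu).2]

theorem commutator_mem_zg {x y : G} (hx : x ∈ Q) (hy : y ∈ Q) : x⁻¹ * y * x * y⁻¹ ∈ zg G a := by
  obtain ⟨-, hsq⟩ := hc.sq_zg_of_simple
  rw [show x⁻¹ * y * x * y⁻¹ = (x⁻¹ * x⁻¹) * ((x * y) * (x * y)) * (y⁻¹ * y⁻¹) by group]
  exact mul_mem (mul_mem (hsq _ (inv_mem hx)) (hsq _ (mul_mem hx hy))) (hsq _ (inv_mem hy))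

/-- An element of `W` that is not trivial fixes only the involutions modulo them. -/
theorem wg_fix_mem_zg (hQ3 : Nat.card Q = Nat.card (zg G a) ^ 3) {w : G} (hw : w ∈ wg G a t) (hw1 : w ≠ 1)
    {x : G} (hx : x ∈ Q) (hwx : w * x = x * w) : x ∈ zg G a := by
  classical
  have hS := hc.hS
  obtain ⟨hQ2, hsq⟩ := hc.sq_zg_of_simple
  obtain ⟨F, iF, iFF, n, c, hH⟩ := hc.exists_herm hQ2 (hc.vg_ne_bot_of_cube hQ3)
  haveI := hH.charTwo
  have hzcard := hH.card_zg
  set f : G → F := fun y => if h : y ∈ Q then (c ⟨y, h⟩).1 else 0 with hfdef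
  have hf : ∀ y (h : y ∈ Q), f y = (c ⟨y, h⟩).1 := fun y h => by rw [hfdef]; exact dif_pos h
  have hone : c 1 = 0 := by
    have e := hH.map_mul 1 1
    rw [one_mul] at e
    have e1 : (c 1).1 = 0 := by simpa [CharTwo.add_self_eq_zero] using congrArg Prod.fst e
    refine Prod.ext e1 ?_
    simpa [CharTwo.add_self_eq_zero, e1, zero_pow (pow_ne_zero n two_ne_zero)] using congrArg Prod.snd e
  -- the first coordinate vanishes exactly on the involutions
  have hz0 : ∀ y : G, ∀ h : y ∈ Q, y ∈ zg G a ↔ (c ⟨y, h⟩).1 = 0 := by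
    intro y h
    have e := hH.map_mul ⟨y, h⟩ ⟨y, h⟩
    constructor
    · intro hy
      have h1 : (⟨y, h⟩ * ⟨y, h⟩ : Q) = 1 := Subtype.ext (hc.zg_sq hy)
      rw [h1, hone] at e
      have e2 := congrArg Prod.snd e
      simp only [Prod.snd_zero, CharTwo.add_self_eq_zero, zero_add] at e2
      rcases mul_eq_zero.1 e2.symm with h2 | h2
      · exact (pow_eq_zero_iff (pow_ne_zero n two_ne_zero)).1 h2
      · exact h2
    · intro h0
      rw [h0, zero_pow (pow_ne_zero n two_ne_zero), zero_mul] at e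
      simp only [CharTwo.add_self_eq_zero] at e
      have h1 : (⟨y, h⟩ * ⟨y, h⟩ : Q) = 1 := hH.inj (by rw [e, hone]; rfl)
      exact hc.mem_zg_of_sq (hS.le h) (congrArg Subtype.val h1)
  set E : Subgroup G := Q ⊓ Subgroup.centralizer ({w} : Set G) with hE
  have hmemE : ∀ y, y ∈ E ↔ y ∈ Q ∧ w * y = y * w := fun y => by
    rw [hE, Subgroup.mem_inf, Subgroup.mem_centralizer_singleton_iff]
    exact and_congr_right fun _ => eq_comm
  have hZE : zg G a ≤ E := fun z hz => (hmemE z).2 ⟨hc.zg_le_Q hz, hc.wg_comm_zg hw hz⟩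
  let φ : E →* Multiplicative F :=
    MonoidHom.mk' (fun y => Multiplicative.ofAdd (c ⟨y, ((hmemE y).1 y.2).1⟩).1) fun y y' => by
      have e := congrArg Prod.fst (hH.map_mul ⟨y, ((hmemE y).1 y.2).1⟩ ⟨y', ((hmemE y').1 y'.2).1⟩)
      rw [← ofAdd_add]
      exact congrArg Multiplicative.ofAdd e
  have hker : φ.ker = (zg G a).subgroupOf E := by
    ext y
    rw [MonoidHom.mem_ker, Subgroup.mem_subgroupOf, hz0 y ((hmemE y).1 y.2).1]
    exact ofAdd_eq_one
  have hcE : Nat.card E = Nat.card (zg G a) * Nat.card φ.range := by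
    rw [← φ.ker.card_mul_index, hker, Subgroup.index, ← hker,
      Nat.card_congr (QuotientGroup.quotientKerEquivRange φ).toEquiv, hker,
      Nat.card_congr (Subgroup.subgroupOfEquivOfLe hZE).toEquiv]
  -- `E` is invariant under the torus
  have hdvd : Nat.card (kg G a t) ∣ Nat.card φ.range - 1 := by
    have hkE : ∀ k ∈ kg G a t, ∀ y ∈ E, k * y * k⁻¹ ∈ E := fun k hk y hy => by
      obtain ⟨hyQ, hyw⟩ := (hmemE y).1 hy
      refine (hmemE _).2 ⟨R1.conj_Q hS (hc.kg_fix hk) hyQ, ?_⟩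
      have e := hc.wg_comm_kg hw hk
      calc w * (k * y * k⁻¹) = (w * k) * y * k⁻¹ := by group
        _ = k * (w * y) * k⁻¹ := by rw [e]; group
        _ = k * (y * w) * k⁻¹ := by rw [hyw]
        _ = (k * y * k⁻¹) * (k * w * k⁻¹) := by group
        _ = k * y * k⁻¹ * w := by rw [show k * w * k⁻¹ = w by rw [← e, mul_inv_cancel_right]]
    have hfree : Nat.card (kg G a t) ∣ Nat.card E - 1 := by
      letI : MulAction (kg G a t) {y : E // y ≠ 1} :=
        { smul := fun k y => ⟨⟨k * y.1 * (k : G)⁻¹, hkE k k.2 _ y.1.2⟩, fun h => y.2 (Subtype.ext (by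
            have := congrArg Subtype.val h
            simpa using this))⟩
          one_smul := fun y => Subtype.ext (Subtype.ext (by
            show ((1 : kg G a t) : G) * y.1 * ((1 : kg G a t) : G)⁻¹ = y.1
            simp))
          mul_smul := fun k k' y => Subtype.ext (Subtype.ext (by
            show ((k * k' : kg G a t) : G) * y.1 * ((k * k' : kg G a t) : G)⁻¹ =
              (k : G) * ((k' : G) * y.1 * (k' : G)⁻¹) * (k : G)⁻¹
            push_cast
            group)) }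
      have hst : ∀ y : {y : E // y ≠ 1}, MulAction.stabilizer (kg G a t) y = ⊥ := by
        intro y
        refine (Subgroup.eq_bot_iff_forall _).2 fun k hk => ?_
        by_contra hk1
        have e : (k : G) * y.1 * (k : G)⁻¹ = y.1 := congrArg (fun z : {y : E // y ≠ 1} => ((z.1 : E) : G)) hk
        exact y.2 (Subtype.ext (hc.kg_fpf k.2 (fun h => hk1 (Subtype.ext h)) ((hmemE _).1 y.1.2).1
          (mul_inv_eq_iff_eq_mul.1 e)))
      haveI := Fintype.ofFinite E
      have hcard : Nat.card {y : E // y ≠ 1} = Nat.card E - 1 := by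
        rw [Nat.card_eq_fintype_card, Fintype.card_subtype_compl, Fintype.card_subtype_eq, Nat.card_eq_fintype_card]
      rw [← hcard, Nat.card_congr (MulAction.selfEquivOrbitsQuotientProd hst), Nat.card_prod]
      exact Dvd.intro_left _ rfl
    have hcop : Nat.Coprime (Nat.card (kg G a t)) (Nat.card (zg G a)) := by
      rw [← hc.card_kg]; exact Nat.coprime_self_add_right.2 (Nat.coprime_one_right _)
    refine hcop.dvd_of_dvd_mul_left ?_
    have h1 : Nat.card E - 1 = Nat.card (zg G a) * (Nat.card φ.range - 1) + Nat.card (kg G a t) := by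
      have h2 := hc.card_kg
      have h3 : 0 < Nat.card φ.range := Nat.card_pos
      obtain ⟨r, hr⟩ : ∃ r, Nat.card φ.range = r + 1 := ⟨Nat.card φ.range - 1, by omega⟩
      rw [hcE, hr, Nat.add_sub_cancel, mul_add, mul_one]
      omega
    rw [h1] at hfree
    exact (Nat.dvd_add_left dvd_rfl).1 hfree
  by_contra hxz
  have hxE : x ∈ E := (hmemE x).2 ⟨hx, hwx⟩
  set p := c ⟨x, hx⟩ with hp
  have hp1 : p.1 ≠ 0 := fun h => hxz ((hz0 x hx).2 h)
  -- the elements of `x` times the involutions give too many first coordinates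
  have hgE : ∀ y ∈ E, ∀ hy : y ∈ Q, y ≠ 1 → gc hS y ∈ E := by
    intro y hy hyQ hy1
    have hyw := ((hmemE y).1 hy).2
    have hwv := hc.mem_vg.1 (hc.wg_le_vg hw)
    have hconj : w * y * w⁻¹ = y := by rw [hyw, mul_inv_cancel_right]
    have htw : t * w = w * t := by
      conv_rhs => rw [← hwv.2]
      rw [mul_assoc, mul_assoc, hS.mul_self, mul_one]
    have e := coords_eq hS hyQ hy1
    have hwD := hwv.1
    have hwa : w • a = a := (Subgroup.mem_inf.1 hwD).1
    obtain ⟨h1, -, -⟩ := coords_unique hS hyQ hy1 (R1.conj_Q hS hwa (gc_mem hS hyQ hy1))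
      (mul_mem (mul_mem hwD (hc_mem hS hyQ hy1)) (inv_mem hwD)) (R1.conj_Q hS hwa (fc_mem hS hyQ hy1))
      (by
        have hti : w⁻¹ * t = t * w⁻¹ := by
          rw [inv_mul_eq_iff_eq_mul, ← mul_assoc, ← htw, mul_inv_cancel_right]
        calc t * y * t = w * (t * y * t) * w⁻¹ := by
              calc t * y * t = t * (w * y * w⁻¹) * t := by rw [hconj]
                _ = (t * w) * y * (w⁻¹ * t) := by group
                _ = w * (t * y * t) * w⁻¹ := by rw [htw, hti]; group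
          _ = (w * gc hS y * w⁻¹) * (w * R1C.hc hS y * w⁻¹) * (w * t * w⁻¹) * (w * fc hS y * w⁻¹) := by
              rw [e]; group
          _ = _ := by rw [← htw, mul_inv_cancel_right])
    refine (hmemE _).2 ⟨gc_mem hS hyQ hy1, ?_⟩
    conv_rhs => rw [h1]
    group
  let T : zg G a → F := fun z => (c ⟨x * z, mul_mem hx (hc.zg_le_Q z.2)⟩).2
  have hxzE : ∀ z : zg G a, x * z ∈ E := fun z => mul_mem hxE (hZE z.2)
  have hfst : ∀ z : zg G a, (c ⟨x * z, mul_mem hx (hc.zg_le_Q z.2)⟩).1 = p.1 := fun z => by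
    have e := congrArg Prod.fst (hH.map_mul ⟨x, hx⟩ ⟨z, hc.zg_le_Q z.2⟩)
    rw [(hz0 _ (hc.zg_le_Q z.2)).1 z.2, add_zero] at e
    exact e
  have hne : ∀ z : zg G a, x * z ≠ 1 := fun z h => hxz (by
    rw [eq_inv_of_mul_eq_one_left h]; exact inv_mem z.2)
  have hgz : ∀ z : zg G a, (c ⟨x * z, mul_mem hx (hc.zg_le_Q z.2)⟩).2 ≠ 0 ∧
      Multiplicative.ofAdd (p.1 / T z) ∈ φ.range := by
    intro z
    obtain ⟨h2, h1⟩ := hH.map_gc (x * z) (mul_mem hx (hc.zg_le_Q z.2)) (hne z)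
    refine ⟨h2, ⟨⟨_, hgE _ (hxzE z) (mul_mem hx (hc.zg_le_Q z.2)) (hne z)⟩, ?_⟩⟩
    show Multiplicative.ofAdd (c ⟨gc hS (x * z), _⟩).1 = _
    rw [h1, hfst z]
  let g : Option (zg G a) → φ.range := fun o => o.elim 1 fun z => ⟨_, (hgz z).2⟩
  have hginj : Function.Injective g := by
    have hv : ∀ z, (p.1 / T z) ≠ 0 := fun z => div_ne_zero hp1 (hgz z).1
    rintro (_ | z) (_ | z') h
    · rfl
    · exact absurd (congrArg (fun u : φ.range => Multiplicative.toAdd (u : Multiplicative F)) h).symm (hv z')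
    · exact absurd (congrArg (fun u : φ.range => Multiplicative.toAdd (u : Multiplicative F)) h) (hv z)
    · have e : p.1 / T z = p.1 / T z' := congrArg (fun u : φ.range => Multiplicative.toAdd (u : Multiplicative F)) h
      have eT : T z = T z' := inv_injective (mul_left_cancel₀ hp1 (by rwa [div_eq_mul_inv, div_eq_mul_inv] at e))
      have := hH.inj (Prod.ext ((hfst z).trans (hfst z').symm) eT)
      exact congrArg some (Subtype.ext (mul_left_cancel (congrArg Subtype.val this)))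
  have hbig : Nat.card (zg G a) < Nat.card φ.range := by
    haveI := Fintype.ofFinite (zg G a)
    have := Nat.card_le_card_of_injective g hginj
    rw [Nat.card_eq_fintype_card, Fintype.card_option, ← Nat.card_eq_fintype_card] at this
    omega
  have hE' : E ≠ Q := fun h => hw1 (hc.eq_one_of_cent_Q (hc.vg_le (hc.wg_le_vg hw)) fun y hy =>
    ((hmemE y).1 (h.symm ▸ hy : y ∈ E)).2)
  haveI : Fact (Nat.Prime 2) := ⟨Nat.prime_two⟩
  obtain ⟨j, hj⟩ := IsPGroup.iff_card.1 (hQ2.to_le (inf_le_left : E ≤ Q))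
  rw [hcE, hzcard] at hj
  have hnj : n ≤ j := (Nat.pow_dvd_pow_iff_le_right one_lt_two).1 ⟨_, hj.symm⟩
  obtain ⟨k, rfl⟩ := Nat.exists_eq_add_of_le hnj
  rw [pow_add] at hj
  have hr : Nat.card φ.range = 2 ^ k := Nat.eq_of_mul_eq_mul_left (by positivity) hj
  rw [hr, hzcard] at hbig
  have hlt : 2 ^ n * 2 ^ k < (2 ^ n) ^ 3 := by
    rw [← hr, ← hzcard, ← hcE, ← hQ3]
    refine lt_of_le_of_ne (Subgroup.card_le_of_le inf_le_left) fun h => hE' ?_
    exact Subgroup.eq_of_le_of_card_ge inf_le_left h.ge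
  have hk : 2 ^ n - 1 ∣ 2 ^ k - 1 := by
    have h2 := hc.card_kg
    rw [hzcard] at h2
    rw [show 2 ^ n - 1 = Nat.card (kg G a t) by omega, ← hr]
    exact hdvd
  have hnk : n ∣ k := by
    have := (Nat.pow_sub_one_gcd_pow_sub_one 2 n k).symm.trans (Nat.gcd_eq_left hk)
    rw [← Nat.gcd_eq_left_iff_dvd]
    refine Nat.pow_right_injective le_rfl ?_
    have h1 := Nat.one_le_two_pow (n := n)
    have h3 := Nat.one_le_two_pow (n := n.gcd k)
    show 2 ^ n.gcd k = 2 ^ n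
    omega
  obtain ⟨m, rfl⟩ := hnk
  have hlt' : n + n * m < n * 3 := by
    rw [← pow_add, ← pow_mul] at hlt
    exact (Nat.pow_lt_pow_iff_right (by norm_num)).1 hlt
  have hgt : n < n * m := (Nat.pow_lt_pow_iff_right (by norm_num)).1 hbig
  rcases m with _ | _ | m
  · omega
  · omega
  · nlinarith

/-- An element of `W` that is not trivial gives every element of `Q` as a commutator modulo the involutions. -/
theorem wg_surj (hcard : Nat.card Q = Nat.card (zg G a) ^ 3) {w : G} (hw : w ∈ wg G a t) (hw1' : w ≠ 1) {x : G}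
    (hx : x ∈ Q) : ∃ y ∈ Q, x⁻¹ * (w * y * w⁻¹ * y⁻¹) ∈ zg G a := by
    have hS := hc.hS
    have hwQ : ∀ x ∈ Q, w * x * w⁻¹ ∈ Q := fun x hx => R1.conj_Q hS (hc.vg_fix (hc.wg_le_vg hw)) hx
    haveI : ((zg G a).subgroupOf Q).Normal := ⟨fun z hz y => by
      rw [Subgroup.mem_subgroupOf] at hz ⊢
      show (y : G) * z * (y : G)⁻¹ ∈ zg G a
      rw [← hc.zg_central hz y.2, mul_inv_cancel_right]
      exact hz⟩
    let π := QuotientGroup.mk' ((zg G a).subgroupOf Q)
    have hπ : ∀ (p q : Q), (p : G)⁻¹ * q ∈ zg G a → π p = π q := fun p q h => QuotientGroup.eq.2 h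
    let γ : Q →* Q ⧸ (zg G a).subgroupOf Q :=
      MonoidHom.mk' (fun x => π ⟨(x : G)⁻¹ * (w * x * w⁻¹), mul_mem (inv_mem x.2) (hwQ x x.2)⟩) fun x y => by
        rw [← map_mul]
        refine hπ _ _ ?_
        set u := w * (x : G) * w⁻¹ with hu
        set v := w * (y : G) * w⁻¹ with hv
        have hxu : (x : G)⁻¹ * u ∈ Q := mul_mem (inv_mem x.2) (hwQ x x.2)
        show (((x * y : Q) : G)⁻¹ * (w * (x * y : Q) * w⁻¹))⁻¹ * ((x : G)⁻¹ * u * ((y : G)⁻¹ * v)) ∈ zg G a
        rw [Subgroup.coe_mul, show w * ((x : G) * y) * w⁻¹ = u * v by rw [hu, hv]; group,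
          show (((x : G) * y)⁻¹ * (u * v))⁻¹ * ((x : G)⁻¹ * u * ((y : G)⁻¹ * v)) =
          v⁻¹ * (((x : G)⁻¹ * u)⁻¹ * (y : G) * ((x : G)⁻¹ * u) * (y : G)⁻¹) * v by group]
        have hin : ((x : G)⁻¹ * u)⁻¹ * (y : G) * ((x : G)⁻¹ * u) * (y : G)⁻¹ ∈ zg G a :=
          hc.commutator_mem_zg hxu y.2
        have hvQ : v ∈ Q := hwQ y y.2
        rw [mul_assoc, hc.zg_central hin hvQ, inv_mul_cancel_left]
        exact hin
    have hker : γ.ker = (zg G a).subgroupOf Q := by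
      ext x
      rw [MonoidHom.mem_ker, Subgroup.mem_subgroupOf]
      refine ⟨fun h => ?_, fun h => ?_⟩
      · have h' : (QuotientGroup.mk (⟨(x : G)⁻¹ * (w * x * w⁻¹), mul_mem (inv_mem x.2) (hwQ x x.2)⟩ : Q) :
            Q ⧸ (zg G a).subgroupOf Q) = 1 := h
        have hz : (x : G)⁻¹ * (w * x * w⁻¹) ∈ zg G a :=
          Subgroup.mem_subgroupOf.1 ((QuotientGroup.eq_one_iff (N := (zg G a).subgroupOf Q) _).1 h')
        have hodd : Odd (orderOf w) :=
          hc.hS.odd_card.of_dvd_nat (Subgroup.orderOf_dvd_natCard _ (hc.vg_le (hc.wg_le_vg hw)))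
        have := hc.fix_of_fix_mod hodd hz (hc.wg_comm_zg hw hz) (x := (x : G)) (by group)
        exact hc.wg_fix_mem_zg hcard hw hw1' x.2 (mul_inv_eq_iff_eq_mul.1 this)
      · show (QuotientGroup.mk (⟨(x : G)⁻¹ * (w * x * w⁻¹), mul_mem (inv_mem x.2) (hwQ x x.2)⟩ : Q) :
            Q ⧸ (zg G a).subgroupOf Q) = 1
        refine (QuotientGroup.eq_one_iff (N := (zg G a).subgroupOf Q) _).2 (Subgroup.mem_subgroupOf.2 ?_)
        show (x : G)⁻¹ * (w * x * w⁻¹) ∈ zg G a
        rw [hc.wg_comm_zg hw h, mul_inv_cancel_right, inv_mul_cancel]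
        exact one_mem _
    have hγ : Function.Surjective γ := by
      rw [← MonoidHom.range_eq_top]
      refine Subgroup.eq_top_of_card_eq _ ?_
      rw [← Nat.card_congr (QuotientGroup.quotientKerEquivRange γ).toEquiv, hker]
    obtain ⟨y, hy⟩ := hγ (π ⟨x, hx⟩)
    have hy' : (QuotientGroup.mk (⟨(y : G)⁻¹ * (w * y * w⁻¹), mul_mem (inv_mem y.2) (hwQ y y.2)⟩ : Q) :
        Q ⧸ (zg G a).subgroupOf Q) = QuotientGroup.mk ⟨x, hx⟩ := hy
    have hz : ((y : G)⁻¹ * (w * y * w⁻¹))⁻¹ * x ∈ zg G a :=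
      Subgroup.mem_subgroupOf.1 (QuotientGroup.eq.1 hy')
    refine ⟨y, y.2, ?_⟩
    have h1 := inv_mem hz
    have h2 : w * y * w⁻¹ * (y : G)⁻¹ = (y : G)⁻¹ * (w * y * w⁻¹) * ((w * y * w⁻¹)⁻¹ * y * (w * y * w⁻¹) * (y : G)⁻¹) := by
      group
    have h3 := hc.commutator_mem_zg (hwQ y y.2) y.2
    rw [h2, ← mul_assoc]
    refine mul_mem ?_ h3
    rwa [mul_inv_rev, inv_inv] at h1

/-- When `|Q| = q ^ 2` the torus is transitive modulo the involutions. -/
theorem kg_trans_mod (hQ2 : Nat.card Q = Nat.card (zg G a) ^ 2) {x y : G} (hx : x ∈ Q) (hxz : x ∉ zg G a)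
    (hy : y ∈ Q) (hyz : y ∉ zg G a) : ∃ k ∈ kg G a t, y⁻¹ * (k * x * k⁻¹) ∈ zg G a := by
  classical
  have hS := hc.hS
  haveI : ((zg G a).subgroupOf Q).Normal := ⟨fun z hz y => by
    rw [Subgroup.mem_subgroupOf] at hz ⊢
    show (y : G) * z * (y : G)⁻¹ ∈ zg G a
    rw [← hc.zg_central hz y.2, mul_inv_cancel_right]
    exact hz⟩
  have hkQ : ∀ k ∈ kg G a t, ∀ x ∈ Q, k * x * k⁻¹ ∈ Q := fun k hk x hx => R1.conj_Q hS (hc.kg_fix hk) hx
  have hkz : ∀ k ∈ kg G a t, ∀ z ∈ zg G a, k * z * k⁻¹ ∈ zg G a := fun k hk z hz => hc.conj_zg (hc.kg_fix hk) hz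
  -- a torus element fixes nothing modulo the involutions
  have hfree : ∀ k ∈ kg G a t, k ≠ 1 → x⁻¹ * (k * x * k⁻¹) ∉ zg G a := by
    intro k hk hk1 hz
    let g : zg G a → zg G a := fun z => ⟨z * (k * z * k⁻¹), mul_mem z.2 (hkz k hk z z.2)⟩
    have hginj : Function.Injective g := by
      intro p q e
      have e' : (p : G) * (k * p * k⁻¹) = q * (k * q * k⁻¹) := congrArg Subtype.val e
      have hpq : k * (q * p) * k⁻¹ = q * p := by
        have c1 := hc.zg_central q.2 (hc.zg_le_Q p.2)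
        calc k * ((q : G) * p) * k⁻¹ = ((q : G) * q) * (k * q * k⁻¹) * (k * p * k⁻¹) := by
              rw [hc.zg_sq q.2]; group
          _ = (q : G) * (p * (k * p * k⁻¹)) * (k * p * k⁻¹) := by rw [e']; group
          _ = (q : G) * p * ((k * p * k⁻¹) * (k * p * k⁻¹)) := by group
          _ = q * p := by rw [hc.zg_sq (hkz k hk p p.2), mul_one]
      have h1 := hc.kg_fpf hk hk1 (hc.zg_le_Q (mul_mem q.2 p.2)) (mul_inv_eq_iff_eq_mul.1 hpq)
      refine Subtype.ext ?_
      rw [eq_inv_of_mul_eq_one_right h1, inv_eq_of_mul_eq_one_left (hc.zg_sq q.2)]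
    obtain ⟨z, ez⟩ := (Finite.injective_iff_surjective.1 hginj) ⟨_, hz⟩
    have ez' : (z : G) * (k * z * k⁻¹) = x⁻¹ * (k * x * k⁻¹) := congrArg Subtype.val ez
    have hfix : k * (x * z) * k⁻¹ = x * z := by
      calc k * (x * z) * k⁻¹ = x * (x⁻¹ * (k * x * k⁻¹)) * (k * z * k⁻¹) := by group
        _ = x * z * ((k * z * k⁻¹) * (k * z * k⁻¹)) := by rw [← ez']; group
        _ = x * z := by rw [hc.zg_sq (hkz k hk z z.2), mul_one]
    have := hc.kg_fpf hk hk1 (mul_mem hx (hc.zg_le_Q z.2)) (mul_inv_eq_iff_eq_mul.1 hfix)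
    exact hxz (by rw [eq_inv_of_mul_eq_one_left this]; exact inv_mem z.2)
  let R := Q ⧸ (zg G a).subgroupOf Q
  let π : Q →* R := QuotientGroup.mk' _
  let f : kg G a t → {r : R // r ≠ 1} := fun k => ⟨π ⟨_, hkQ k k.2 x hx⟩, fun e => by
    have h := hkz _ (inv_mem k.2) _ (Subgroup.mem_subgroupOf.1 ((QuotientGroup.eq_one_iff _).1 e))
    refine hxz ?_
    rwa [show ((k : G)⁻¹) * ((k : G) * x * (k : G)⁻¹) * (k : G)⁻¹⁻¹ = x by group] at h⟩
  have hf : Function.Injective f := by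
    intro k k' e
    by_contra hne
    have e' : π ⟨_, hkQ k k.2 x hx⟩ = π ⟨_, hkQ k' k'.2 x hx⟩ := congrArg Subtype.val e
    have h := hkz _ (inv_mem k.2) _ (Subgroup.mem_subgroupOf.1 (QuotientGroup.eq.1 e'))
    refine hfree _ (mul_mem (inv_mem k.2) k'.2) (fun h1 => hne (Subtype.ext (inv_mul_eq_one.1 h1))) ?_
    simpa [mul_assoc] using h
  have hcard : Nat.card (kg G a t) = Nat.card {r : R // r ≠ 1} := by
    haveI := Fintype.ofFinite R
    have h1 := ((zg G a).subgroupOf Q).card_mul_index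
    rw [Nat.card_congr (Subgroup.subgroupOfEquivOfLe hc.zg_le_Q).toEquiv, hQ2, pow_two] at h1
    have h2 : Nat.card R = Nat.card (zg G a) := Nat.eq_of_mul_eq_mul_left Nat.card_pos h1
    rw [Nat.card_eq_fintype_card (α := {r : R // r ≠ 1}), Fintype.card_subtype_compl, Fintype.card_subtype_eq,
      ← Nat.card_eq_fintype_card, h2, ← hc.card_kg]
    omega
  obtain ⟨k, hk⟩ := ((Nat.bijective_iff_injective_and_card f).2 ⟨hf, hcard⟩).2
    ⟨π ⟨y, hy⟩, fun e => hyz (Subgroup.mem_subgroupOf.1 ((QuotientGroup.eq_one_iff _).1 e))⟩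
  refine ⟨k, k.2, ?_⟩
  have := inv_mem (Subgroup.mem_subgroupOf.1 (QuotientGroup.eq.1 (congrArg Subtype.val hk)))
  simpa [mul_assoc] using this

variable {β : G → G} (hβZ : ∀ x ∈ Q, β x ∈ zg G a) (hmul : ∀ x ∈ Q, ∀ y ∈ Q, β (x * y) = β x * β y)
  (hkill : ∀ z ∈ zg G a, β z = 1) (hequi : ∀ d ∈ D G a t, ∀ x ∈ Q, β (d * x * d⁻¹) = d * β x * d⁻¹)

include hβZ hmul hkill hequi

/-- The only equivariant map to the involutions killing them is trivial. -/
theorem equivariant_trivial : ∀ x ∈ Q, β x = 1 := by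
  classical
  have hS := hc.hS
  obtain ⟨i, hi, hcard⟩ := hc.card_Q_of_simple
  rcases hi with rfl | rfl | rfl
  · intro x hx
    rw [pow_one] at hcard
    exact hkill x ((Subgroup.eq_of_le_of_card_ge hc.zg_le_Q hcard.le).symm ▸ hx)
  · by_contra hne
    push Not at hne
    obtain ⟨x0, hx0, hb0⟩ := hne
    have hkQ : ∀ k ∈ kg G a t, ∀ x ∈ Q, k * x * k⁻¹ ∈ Q := fun k hk x hx => R1.conj_Q hS (hc.kg_fix hk) hx
    have hkβ : ∀ k ∈ kg G a t, ∀ x ∈ Q, β (k * x * k⁻¹) = k * β x * k⁻¹ :=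
      fun k hk x hx => hequi k (hc.kg_le hk) x hx
    obtain ⟨hQ2, hsq⟩ := hc.sq_zg_of_simple
    let ψ : Q →* zg G a := MonoidHom.mk' (fun x => ⟨β x, hβZ x x.2⟩) fun x y => Subtype.ext (hmul x x.2 y y.2)
    have hψ : Function.Surjective ψ := fun z => by
      by_cases hz : (z : G) = 1
      · exact ⟨1, by rw [map_one]; exact Subtype.ext hz.symm⟩
      obtain ⟨k, hk, e⟩ := hc.kg_trans (hβZ x0 hx0) hb0 z.2 hz
      exact ⟨⟨_, hkQ k hk x0 hx0⟩, Subtype.ext ((hkβ k hk x0 hx0).trans e)⟩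
    have hker : ψ.ker = (zg G a).subgroupOf Q := by
      refine (Subgroup.eq_of_le_of_card_ge (fun y hy => show ψ y = 1 from Subtype.ext (hkill y hy)) ?_).symm
      have h := ψ.ker.card_mul_index
      rw [Subgroup.index, Nat.card_congr (QuotientGroup.quotientKerEquivOfSurjective ψ hψ).toEquiv, hcard,
        pow_two] at h
      rw [Nat.eq_of_mul_eq_mul_right Nat.card_pos h, Nat.card_congr (Subgroup.subgroupOfEquivOfLe hc.zg_le_Q).toEquiv]
    have hk0 : ∀ x ∈ Q, β x = 1 → x ∈ zg G a := fun x hx h =>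
      Subgroup.mem_subgroupOf.1 (hker.le (show (⟨x, hx⟩ : Q) ∈ ψ.ker from Subtype.ext h))
    have hs0 : x0 * x0 ≠ 1 := fun h => hb0 (hkill _ (hc.mem_zg_of_sq (hS.le hx0) h))
    obtain ⟨k1, hk1, e1⟩ := hc.kg_trans (hβZ x0 hx0) hb0 (hsq x0 hx0) hs0
    -- squaring is the composite with a torus element
    have hσ : ∀ x ∈ Q, x * x = k1 * β x * k1⁻¹ := by
      intro x hx
      by_cases hb : β x = 1
      · rw [hb, hc.zg_sq (hk0 x hx hb), mul_one, mul_inv_cancel]
      obtain ⟨k, hk, ek⟩ := hc.kg_trans (hβZ x0 hx0) hb0 (hβZ x hx) hb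
      set y := k * x0 * k⁻¹ with hy
      have hyQ : y ∈ Q := hkQ k hk x0 hx0
      have hby : β y = β x := (hkβ k hk x0 hx0).trans ek
      obtain ⟨z, hz, hxz⟩ : ∃ z ∈ zg G a, x = y * z := by
        refine ⟨y⁻¹ * x, hk0 _ (mul_mem (inv_mem hyQ) hx) ?_, by group⟩
        have h1 := hmul y hyQ (y⁻¹ * x) (mul_mem (inv_mem hyQ) hx)
        rw [show y * (y⁻¹ * x) = x by group, hby] at h1
        exact mul_eq_left.1 h1.symm
      calc x * x = y * y * (z * z) := by
            rw [hxz, show y * z * (y * z) = y * (z * y) * z by group, hc.zg_central hz hyQ]; group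
        _ = k * (x0 * x0) * k⁻¹ := by rw [hc.zg_sq hz, mul_one, hy]; group
        _ = (k * k1) * β x0 * (k * k1)⁻¹ := by rw [← e1]; group
        _ = k1 * β x * k1⁻¹ := by rw [hc.kg_comm hk hk1, ← ek]; group
    have hne' : Nat.card Q ≠ Nat.card (zg G a) := by
      rw [hcard]
      obtain ⟨f, hf, hzf⟩ := hc.exists_f
      rw [hzf, ← pow_mul]
      exact fun h => by have := Nat.pow_right_injective le_rfl h; omega
    obtain ⟨x, hx, y, hy, hxy⟩ := hc.exists_noncomm hne'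
    refine hxy ?_
    have e := hσ _ (mul_mem hx hy)
    rw [hmul x hx y hy, show k1 * (β x * β y) * k1⁻¹ = k1 * β x * k1⁻¹ * (k1 * β y * k1⁻¹) by group,
      ← hσ x hx, ← hσ y hy] at e
    exact (mul_left_cancel (mul_right_cancel (show x * (y * x) * y = x * (x * y) * y by
      simpa only [mul_assoc] using e))).symm
  · obtain ⟨⟨w, hw⟩, hw1⟩ := (Subgroup.ne_bot_iff_exists_ne_one).1 (hc.wg_ne_bot_of_cube hcard)
    have hw1' : w ≠ 1 := fun h => hw1 (Subtype.ext h)
    have hwQ : ∀ x ∈ Q, w * x * w⁻¹ ∈ Q := fun x hx => R1.conj_Q hS (hc.vg_fix (hc.wg_le_vg hw)) hx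
    obtain ⟨hQ2, hsq⟩ := hc.sq_zg_of_simple
    intro x hx
    obtain ⟨y, hyQ, hz⟩ := hc.wg_surj hcard hw hw1' hx
    have hwy : w * y * w⁻¹ * y⁻¹ ∈ Q := mul_mem (hwQ y hyQ) (inv_mem hyQ)
    have hz' : (w * y * w⁻¹ * y⁻¹)⁻¹ * x ∈ zg G a := by
      have := inv_mem hz
      rwa [mul_inv_rev, inv_inv] at this
    rw [show x = w * y * w⁻¹ * y⁻¹ * ((w * y * w⁻¹ * y⁻¹)⁻¹ * x) by group,
      hmul _ hwy _ (hc.zg_le_Q hz'), hkill _ hz', mul_one, hmul _ (hwQ y hyQ) _ (inv_mem hyQ),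
      hequi w (hc.vg_le (hc.wg_le_vg hw)) y hyQ, hc.wg_comm_zg hw (hβZ y hyQ), mul_inv_cancel_right,
      ← hmul _ hyQ _ (inv_mem hyQ), mul_inv_cancel, hkill 1 (one_mem _)]

omit hβZ hmul hkill hequi

/-- An automorphism normalising `Q`, fixing its involutions and trivial modulo them is conjugation by an element
of `Q`. -/
theorem inner_of_fix (hM : Subgroup.normalizer (Q : Set G) = stabilizer G a) (α : MulAut G)
    (hαQ : ∀ x ∈ Q, α x ∈ Q) (hfix : ∀ z ∈ zg G a, α z = z) (hmod : ∀ x ∈ Q, x⁻¹ * α x ∈ zg G a) :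
    ∃ y ∈ Q, ∀ g, α g = y * g * y⁻¹ := by
  classical
  have hS := hc.hS
  have hQmap : Q.map α.toMonoidHom = Q :=
    Subgroup.eq_of_le_of_card_ge (Subgroup.map_le_iff_le_comap.2 hαQ)
      (Subgroup.card_map_of_injective (f := α.toMonoidHom) α.injective).ge
  have hαiff : ∀ g, α g • a = a ↔ g • a = a := by
    intro g
    rw [← mem_stabilizer_iff, ← mem_stabilizer_iff, ← hM, Subgroup.mem_normalizer_iff, Subgroup.mem_normalizer_iff]
    have hαm : ∀ x, α x ∈ Q ↔ x ∈ Q := fun x => by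
      conv_lhs => rw [← hQmap]
      exact Subgroup.mem_map_equiv.trans (by rw [MulEquiv.symm_apply_apply])
    refine ⟨fun h x => ?_, fun h x => ?_⟩
    · have := h (α x)
      rwa [← map_inv, ← map_mul, ← map_mul, hαm, hαm] at this
    · obtain ⟨x, rfl⟩ := α.surjective x
      rw [← map_inv, ← map_mul, ← map_mul, hαm, hαm]
      exact h x
  have hαt : α t • a ≠ a := fun h => hS.not_mem ((hαiff t).1 h)
  obtain ⟨q, hq, hqt⟩ := R1.exists_q hS hαt
  set y := q⁻¹ with hy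
  have hyQ : y ∈ Q := inv_mem hq
  have hyt : y • (α t • a) = t • a := by rw [← hqt, hy, inv_smul_smul]
  set α' : MulAut G := MulAut.conj y * α with hα'def
  have hα' : ∀ g, α' g = y * α g * y⁻¹ := fun g => rfl
  have hyfix : ∀ z, z • a = a → (y * z * y⁻¹) • a = a := fun z hz => by
    rw [mul_smul, mul_smul, show y⁻¹ • a = a from hS.le (inv_mem hyQ), hz, show y • a = a from hS.le hyQ]
  have ha' : ∀ g, α' g • a = a ↔ g • a = a := fun g => by
    refine ⟨fun h => (hαiff g).1 ?_, fun h => hyfix _ ((hαiff g).2 h)⟩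
    rw [hα', mul_smul, mul_smul, show y⁻¹ • a = a from hS.le (inv_mem hyQ), smul_eq_iff_eq_inv_smul] at h
    rw [h]
    exact hS.le (inv_mem hyQ)
  have ht' : α' t • a = t • a := by
    rw [hα', mul_smul, mul_smul, show y⁻¹ • a = a from hS.le (inv_mem hyQ), hyt]
  have hz' : ∀ z ∈ zg G a, α' z = z := fun z hz => by
    rw [hα', hfix z hz, ← hc.zg_central hz hyQ, mul_inv_cancel_right]
  have hQ' : ∀ x ∈ Q, α' x ∈ Q := fun x hx => mul_mem (mul_mem hyQ (hαQ x hx)) (inv_mem hyQ)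
  have hm' : ∀ x ∈ Q, x⁻¹ * α' x ∈ zg G a := fun x hx => by
    have h1 := hc.commutator_mem_zg (inv_mem hx) hyQ
    rw [hα', show x⁻¹ * (y * α x * y⁻¹) = x⁻¹ * y * x * ((x⁻¹ * α x) * y⁻¹) by group,
      hc.zg_central (hmod x hx) (inv_mem hyQ), show x⁻¹ * y * x * (y⁻¹ * (x⁻¹ * α x)) =
      (x⁻¹ * y * x * y⁻¹) * (x⁻¹ * α x) by group]
    exact mul_mem (hc.commutator_mem_zg hx hyQ) (hmod x hx)
  have hD : ∀ d ∈ D G a t, α' d ∈ D G a t := fun d hd => by
    obtain ⟨h1, h2⟩ := Subgroup.mem_inf.1 hd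
    refine Subgroup.mem_inf.2 ⟨(ha' d).2 h1, ?_⟩
    show α' d • (t • a) = t • a
    have h3 : α' (t * d * t) • a = a := (ha' _).2 (Subgroup.mem_inf.1 (R1.tDt hS hd)).1
    calc α' d • (t • a) = α' d • (α' t • a) := by rw [ht']
      _ = α' t • (α' (t * d * t) • a) := by
          rw [← mul_smul, ← mul_smul, ← map_mul, ← map_mul, ← mul_assoc t (t * d) t, R1.tt hS]
      _ = t • a := by rw [h3, ht']
  have hfixD : ∀ d ∈ D G a t, α' d = d := by
    intro d hd
    set u := d⁻¹ * α' d with hu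
    have huD : u ∈ D G a t := mul_mem (inv_mem hd) (hD d hd)
    have hda : d • a = a := (Subgroup.mem_inf.1 hd).1
    have huz : ∀ z ∈ zg G a, u * z = z * u := by
      intro z hz
      have h := hz' _ (hc.conj_zg hda hz)
      rw [map_mul, map_mul, map_inv, hz' z hz] at h
      refine mul_inv_eq_iff_eq_mul.1 ?_
      calc u * z * u⁻¹ = d⁻¹ * (α' d * z * (α' d)⁻¹) * d := by rw [hu]; group
        _ = z := by rw [h]; group
    refine inv_mul_eq_one.1 (hc.eq_one_of_cent_Q huD fun x hx => ?_) |>.symm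
    refine mul_inv_eq_iff_eq_mul.1 ?_
    set z := x⁻¹ * (u * x * u⁻¹) with hzdef
    have hzmem : z ∈ zg G a := by
      set x' := d * x * d⁻¹ with hx'
      have hx'Q : x' ∈ Q := R1.conj_Q hS hda hx
      have h1 : α' x' = α' d * α' x * (α' d)⁻¹ := by rw [hx', map_mul, map_mul, map_inv]
      have h2 := hc.conj_zg (show d⁻¹ • a = a from inv_smul_eq_iff.2 hda.symm) (hm' x' hx'Q)
      have h3 := hc.conj_zg (Subgroup.mem_inf.1 huD).1 (inv_mem (hm' x hx))
      have e : z = (d⁻¹ * (x'⁻¹ * α' x') * d⁻¹⁻¹) * (u * (x⁻¹ * α' x)⁻¹ * u⁻¹) := by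
        rw [hzdef, h1, hu, hx']; group
      rw [e]
      exact mul_mem h2 h3
    exact hc.fix_of_fix_mod (hS.odd_card.of_dvd_nat (Subgroup.orderOf_dvd_natCard _ huD)) hzmem
      (huz z hzmem) (mul_inv_cancel_left x _).symm
  -- the difference
  have hβ := hc.equivariant_trivial (β := fun x => x⁻¹ * α' x) hm'
    (fun x hx z hz => by
      show (x * z)⁻¹ * α' (x * z) = x⁻¹ * α' x * (z⁻¹ * α' z)
      rw [map_mul, show x⁻¹ * α' x * (z⁻¹ * α' z) = (x⁻¹ * α' x * z⁻¹) * α' z by group,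
        hc.zg_central (hm' x hx) (inv_mem hz)]
      group)
    (fun z hz => by show z⁻¹ * α' z = 1; rw [hz' z hz, inv_mul_cancel])
    (fun d hd x _ => by
      show (d * x * d⁻¹)⁻¹ * α' (d * x * d⁻¹) = d * (x⁻¹ * α' x) * d⁻¹
      rw [map_mul, map_mul, map_inv, hfixD d hd]
      group)
  have hQfix : ∀ x ∈ Q, α' x = x := fun x hx => (inv_mul_eq_one.1 (hβ x hx)).symm
  have hpt : ∀ g, α' g • a = g • a := by
    intro g
    by_cases hg : g • a = a
    · rw [hg, (ha' g).2 hg]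
    obtain ⟨r, hr, hrg⟩ := R1.exists_q hS hg
    have hm : α' ((r * t)⁻¹ * g) • a = a := (ha' _).2 (by rw [mul_smul, ← hrg, ← mul_smul, ← mul_smul]; simp)
    rw [map_mul, map_inv, map_mul, hQfix r hr, mul_smul, inv_smul_eq_iff, mul_smul, ht'] at hm
    rw [hm, hrg]
  refine ⟨q, hq, fun g => ?_⟩
  have hg : α' g = g := by
    refine eq_of_smul_eq_smul (α := Ω) fun b => ?_
    obtain ⟨h, rfl⟩ : ∃ h : G, h • a = b := by
      by_cases hb : b = a
      · exact ⟨1, by rw [hb, one_smul]⟩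
      obtain ⟨r, -, hr⟩ := R1.exists_q hS hb
      exact ⟨r * t, by rw [mul_smul, hr]⟩
    conv_lhs => rw [← hpt h, ← mul_smul, ← map_mul, hpt]
    rw [mul_smul]
  calc α g = q * (y * α g * y⁻¹) * q⁻¹ := by rw [hy]; group
    _ = q * g * q⁻¹ := by rw [← hα', hg]

end Ctx

end Cfsg.Agent.Lie.R1C
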