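import Cfsg.Agent.Lib.Goldschmidt.Defs
import Cfsg.Agent.Lib.Goldschmidt.Local.RankOne
import Cfsg.Agent.Lib.CI.Quotient
import Cfsg.Agent.S4593

/-!
# The simple groups of the induction: involutions of a Sylow 2-subgroup and automorphisms fixing them

The involutions of a Sylow 2-subgroup form with one a central elementary group, some element of the normaliser is
regular on them, and a 2-automorphism fixing them and trivial modulo them on the Sylow subgroup is inner.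
-/

set_option autoImplicit false
set_option linter.style.haveILetI false
set_option linter.unusedSectionVars false

namespace Cfsg.Agent.Goldschmidt

open Subgroup Cfsg.Agent
open Cfsg.Agent.Solv.AbelianTwo (Ab2)

universe u

variable {K : Type u} [Group K] [Finite K]

/-- The Suzuki shape: an element of the normaliser is transitive modulo the involutions, and its powers give all the
automorphisms induced on them. -/
structure SzData (P : Sylow 2 K) (W : Subgroup K) : Prop where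
  turn : ∃ h : K, h ∈ normalizer (W : Set K) ∧ h ∈ normalizer ((P : Subgroup K) : Set K) ∧
    (∀ x ∈ (P : Subgroup K), x ∉ W → ∀ y ∈ (P : Subgroup K), y ∉ W → ∃ i : ℕ, y⁻¹ * (h ^ i * x * (h ^ i)⁻¹) ∈ W) ∧
    ∀ g ∈ normalizer (W : Set K), ∃ i : ℕ, ∀ z ∈ W, g * z * g⁻¹ = h ^ i * z * (h ^ i)⁻¹
  odd : ∃ n : ℕ, Odd n ∧ Nat.card W = 2 ^ n
  ne : ∃ x ∈ (P : Subgroup K), x ∉ W

/-- An element of odd order fixing the involutions moves everything else. -/
def MoverData (P : Sylow 2 K) (W : Subgroup K) : Prop :=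
  ∃ w : K, Odd (orderOf w) ∧ w ∈ normalizer ((P : Subgroup K) : Set K) ∧ (∀ z ∈ W, w * z = z * w) ∧
    ∀ x ∈ (P : Subgroup K), ∃ y ∈ (P : Subgroup K), x⁻¹ * (w * y * w⁻¹ * y⁻¹) ∈ W

/-- The facts used about the involutions of a Sylow 2-subgroup. -/
structure TypeData (P : Sylow 2 K) (W : Subgroup K) : Prop where
  le : W ≤ (P : Subgroup K)
  central : ∀ w ∈ W, ∀ x ∈ (P : Subgroup K), w * x = x * w
  cyc : Walter.Cyc W
  invol : ∀ x ∈ (P : Subgroup K), x * x = 1 → x ∈ W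
  mod : ∀ x ∈ (P : Subgroup K), x * x ∈ W
  alt : MoverData P W ∨ SzData P W
  inner : ∀ α : MulAut K, (∃ j : ℕ, orderOf α = 2 ^ j) → (∀ x ∈ (P : Subgroup K), α x ∈ (P : Subgroup K)) →
    (∀ w ∈ W, α w = w) → (∀ x ∈ (P : Subgroup K), x⁻¹ * α x ∈ W) → ∃ g : K, ∀ k : K, α k = g * k * g⁻¹

theorem TypeData.smul {P : Sylow 2 K} {W : Subgroup K} (h : TypeData P W) (g : K) :
    TypeData (g • P) (W.map (MulAut.conj g).toMonoidHom) := by
  have hP : ∀ x, x ∈ ((g • P : Sylow 2 K) : Subgroup K) ↔ g⁻¹ * x * g ∈ (P : Subgroup K) := fun x => by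
    rw [Sylow.coe_subgroup_smul, Subgroup.mem_pointwise_smul_iff_inv_smul_mem]
    simp [MulAut.smul_def]
  have hW : ∀ x, x ∈ W.map (MulAut.conj g).toMonoidHom ↔ g⁻¹ * x * g ∈ W := fun x => by
    rw [Subgroup.mem_map_equiv, MulAut.conj_symm_apply]
  have hsq : ∀ x, g⁻¹ * (x * x) * g = g⁻¹ * x * g * (g⁻¹ * x * g) := fun x => by group
  have hnz : ∀ {H : Subgroup K} {H' : Subgroup K}, (∀ x, x ∈ H' ↔ g⁻¹ * x * g ∈ H) → ∀ {n : K},
      n ∈ normalizer (H : Set K) → g * n * g⁻¹ ∈ normalizer (H' : Set K) := fun {H H'} hH {n} hn =>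
    mem_normalizer_iff.2 fun x => by
      rw [hH, hH, mem_normalizer_iff.1 hn]
      rw [show g⁻¹ * (g * n * g⁻¹ * x * (g * n * g⁻¹)⁻¹) * g = n * (g⁻¹ * x * g) * n⁻¹ by group]
  have hpow : ∀ (y : K) (i : ℕ), (g * y * g⁻¹) ^ i = g * y ^ i * g⁻¹ := fun y i => conj_pow
  have halt : MoverData (g • P) (W.map (MulAut.conj g).toMonoidHom) ∨
      SzData (g • P) (W.map (MulAut.conj g).toMonoidHom) := by
    rcases h.alt with ⟨w, hwo, hwP, hwW, hwx⟩ | ⟨⟨k, hkW, hkP, hkt, hka⟩, ⟨n, hn, hWn⟩, ⟨x, hx, hxW⟩⟩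
    · refine Or.inl ⟨g * w * g⁻¹, ?_, hnz hP hwP, fun z hz => ?_, fun x hx => ?_⟩
      · rwa [show g * w * g⁻¹ = MulAut.conj g w from rfl, MulEquiv.orderOf_eq]
      · have := hwW _ ((hW z).1 hz)
        calc g * w * g⁻¹ * z = g * (w * (g⁻¹ * z * g)) * g⁻¹ := by group
          _ = z * (g * w * g⁻¹) := by rw [this]; group
      · obtain ⟨y, hy, e⟩ := hwx _ ((hP x).1 hx)
        refine ⟨g * y * g⁻¹, (hP _).2 (by rwa [show g⁻¹ * (g * y * g⁻¹) * g = y by group]), (hW _).2 ?_⟩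
        convert e using 1
        group
    · refine Or.inr ⟨⟨g * k * g⁻¹, hnz hW hkW, hnz hP hkP, fun x hx hxW y hy hyW => ?_, fun m hm => ?_⟩,
        ⟨n, hn, by rw [Subgroup.card_map_of_injective (f := (MulAut.conj g).toMonoidHom) (MulAut.conj g).injective, hWn]⟩,
        g * x * g⁻¹, (hP _).2 (by rwa [show g⁻¹ * (g * x * g⁻¹) * g = x by group]), fun hc => hxW ?_⟩
      · obtain ⟨i, hi⟩ := hkt _ ((hP x).1 hx) (fun e => hxW ((hW x).2 e)) _ ((hP y).1 hy) (fun e => hyW ((hW y).2 e))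
        refine ⟨i, (hW _).2 ?_⟩
        rw [hpow]
        convert hi using 1
        group
      · obtain ⟨i, hi⟩ := hka (g⁻¹ * m * g) (mem_normalizer_iff.2 fun z => by
          have h1 := mem_normalizer_iff.1 hm (g * z * g⁻¹)
          rw [hW, hW, show g⁻¹ * (g * z * g⁻¹) * g = z by group,
            show g⁻¹ * (m * (g * z * g⁻¹) * m⁻¹) * g = g⁻¹ * m * g * z * (g⁻¹ * m * g)⁻¹ by group] at h1
          exact h1)
        refine ⟨i, fun z hz => ?_⟩
        have := hi _ ((hW z).1 hz)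
        rw [hpow]
        calc m * z * m⁻¹ = g * (g⁻¹ * m * g * (g⁻¹ * z * g) * (g⁻¹ * m * g)⁻¹) * g⁻¹ := by group
          _ = _ := by rw [this]; group
      · have := (hW _).1 hc
        rwa [show g⁻¹ * (g * x * g⁻¹) * g = x by group] at this
  refine ⟨fun x hx => (hP x).2 (h.le ((hW x).1 hx)), fun w hw x hx => ?_, h.cyc.map _ (MulAut.conj g).injective,
    fun x hx hx2 => (hW x).2 (h.invol _ ((hP x).1 hx) (by
      rw [show g⁻¹ * x * g * (g⁻¹ * x * g) = g⁻¹ * (x * x) * g by group, hx2]; group)),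
    fun x hx => (hW _).2 (by rw [hsq]; exact h.mod _ ((hP x).1 hx)), halt, ?_⟩
  · have := h.central _ ((hW w).1 hw) _ ((hP x).1 hx)
    calc w * x = g * (g⁻¹ * w * g * (g⁻¹ * x * g)) * g⁻¹ := by group
      _ = x * w := by rw [this]; group
  intro α hα hαP hαW hαm
  set c := MulAut.conj g with hc
  set β : MulAut K := c⁻¹ * α * c with hβ
  have hβ' : ∀ k, β k = g⁻¹ * α (g * k * g⁻¹) * g := fun k => by simp [hβ, hc]
  have key : ∀ k, g⁻¹ * (g * k * g⁻¹) * g = k := fun k => by group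
  obtain ⟨j, hj⟩ := hα
  obtain ⟨y, hy⟩ := h.inner β ⟨j, by
    rw [← hj, hβ]
    exact orderOf_injective (MulAut.conj c⁻¹).toMonoidHom (MulAut.conj c⁻¹).injective α ▸ by simp⟩
    (fun x hx => by rw [hβ']; exact (hP _).1 (hαP _ ((hP _).2 (by rwa [key]))))
    (fun w hw => by rw [hβ', hαW _ ((hW _).2 (by rwa [key])), key])
    (fun x hx => by
      have := (hW _).1 (hαm _ ((hP (g * x * g⁻¹)).2 (by rwa [key])))
      rw [hβ']
      convert this using 1
      group)
  refine ⟨g * y * g⁻¹, fun k => ?_⟩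
  have h1 := hy (g⁻¹ * k * g)
  rw [hβ', show g * (g⁻¹ * k * g) * g⁻¹ = k by group] at h1
  calc α k = g * (g⁻¹ * α k * g) * g⁻¹ := by group
    _ = _ := by rw [h1]; group

/-- Regularity of a cyclic group on the involutions gives the turn. -/
theorem cyc_zg {Ω : Type u} [MulAction K Ω] {a : Ω} {t : K} {Q : Subgroup K} (hc : Lie.R1C.Ctx K Ω a t Q) :
    Walter.Cyc (Lie.R1C.zg K a) := by
  obtain ⟨z, hz, -⟩ := hc.exists_gen
  obtain ⟨f, hf, hzf⟩ := hc.exists_f
  have hzk : z ∈ Lie.R1C.kg K a t := hz ▸ mem_zpowers z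
  refine ⟨fun x hx => hc.zg_sq hx, ?_, z, ?_, fun x hx => ?_, fun x hx hx1 y hy hy1 => ?_⟩
  · rw [hzf]
    exact le_trans (by norm_num) (Nat.pow_le_pow_right (show 0 < 2 by norm_num) hf)
  · refine mem_normalizer_fintype fun x hx => ?_
    exact hc.conj_zg (hc.kg_fix hzk) hx
  · have h1 : z ^ (Nat.card (Lie.R1C.zg K a) - 1) = 1 := by
      rw [← orderOf_dvd_iff_pow_eq_one, ← Nat.card_zpowers, ← hz, ← hc.card_kg, Nat.add_sub_cancel]
    rw [h1, one_mul, inv_one, mul_one]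
  · obtain ⟨k, hk, e⟩ := hc.kg_trans hx hx1 hy hy1
    rw [hz] at hk
    obtain ⟨i, rfl⟩ := (isOfFinOrder_of_finite z).mem_powers_iff_mem_zpowers.2 hk
    exact ⟨i, e⟩

/-- The two shapes in a simple rank-one set-up. -/
theorem alt_of_ctx [IsSimpleGroup K] {Ω : Type u} [MulAction K Ω] [FaithfulSMul K Ω] {a : Ω} {t : K} {Q : Subgroup K}
    (hc : Lie.R1C.Ctx K Ω a t Q) {S : Sylow 2 K} (hS : (S : Subgroup K) = Q) :
    MoverData S (Lie.R1C.zg K a) ∨ SzData S (Lie.R1C.zg K a) := by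
  obtain ⟨i, hi, hcard⟩ := hc.card_Q_of_simple
  have hnorm : ∀ d : K, d • a = a → d ∈ normalizer ((S : Subgroup K) : Set K) := fun d hd => by
    rw [hS]; exact mem_normalizer_fintype fun x hx => Lie.R1.conj_Q hc.hS hd hx
  rcases hi with rfl | rfl | rfl
  · refine Or.inl ⟨1, by rw [orderOf_one]; exact odd_one, one_mem _, fun z _ => by rw [one_mul, mul_one],
      fun x hx => ⟨1, one_mem _, ?_⟩⟩
    rw [pow_one] at hcard
    rw [mul_one, one_mul, inv_one, mul_one, mul_one]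
    exact inv_mem ((Subgroup.eq_of_le_of_card_ge hc.zg_le_Q hcard.le).symm.le (hS.le hx))
  · have hV := hc.vg_bot_of_square hcard
    obtain ⟨z, hz, -⟩ := hc.exists_gen
    obtain ⟨f, hf, hzf⟩ := hc.exists_f
    have hzk : z ∈ Lie.R1C.kg K a t := hz ▸ mem_zpowers z
    have hpw : ∀ k ∈ Lie.R1C.kg K a t, ∃ i : ℕ, k = z ^ i := fun k hk => by
      rw [hz] at hk
      obtain ⟨i, rfl⟩ := (isOfFinOrder_of_finite z).mem_powers_iff_mem_zpowers.2 hk
      exact ⟨i, rfl⟩
    refine Or.inr ⟨⟨z, mem_normalizer_fintype fun x hx => hc.conj_zg (hc.kg_fix hzk) hx, hnorm z (hc.kg_fix hzk),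
      fun x hx hxW y hy hyW => ?_, fun g hg => ?_⟩, hc.odd_of_square hcard, ?_⟩
    · obtain ⟨k, hk, e⟩ := hc.kg_trans_mod hcard (hS.le hx) hxW (hS.le hy) hyW
      obtain ⟨i, rfl⟩ := hpw k hk
      exact ⟨i, e⟩
    · obtain ⟨w, hw, hw1⟩ : ∃ w ∈ Lie.R1C.zg K a, w ≠ 1 := by
        by_contra h
        push Not at h
        rw [(Subgroup.eq_bot_iff_forall _).2 h, Subgroup.card_bot] at hzf
        have := Nat.one_lt_two_pow (n := f) (by omega)
        omega
      have hgw := (mem_normalizer_iff.1 hg w).1 hw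
      have hga : g • a = a := hc.honly _ (hc.zg_le_Q hgw) (fun e => hw1 (conj_eq_one_iff.1 e)) _ (by
        rw [mul_smul, mul_smul, inv_smul_smul, show w • a = a from hc.hS.le (hc.zg_le_Q hw)])
      obtain ⟨q, hq, d, hd, rfl⟩ := Lie.R1.mem_sup hc.hS hga
      obtain ⟨v, hv, k, hk, rfl⟩ := hc.decomp hd
      rw [hV, mem_bot] at hv
      subst hv
      obtain ⟨i, rfl⟩ := hpw k hk
      refine ⟨i, fun x hx => ?_⟩
      have hx' := hc.conj_zg (hc.kg_fix hk) hx
      have := hc.zg_central hx' hq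
      calc q * (1 * z ^ i) * x * (q * (1 * z ^ i))⁻¹ = q * (z ^ i * x * (z ^ i)⁻¹) * q⁻¹ := by group
        _ = _ := by rw [← this, mul_inv_cancel_right]
    · by_contra h
      push Not at h
      have he : Q = Lie.R1C.zg K a := le_antisymm (fun x hx => h x (hS.symm ▸ hx)) hc.zg_le_Q
      rw [he, hzf, ← pow_mul] at hcard
      have := Nat.pow_right_injective le_rfl hcard
      omega
  · obtain ⟨⟨w, hw⟩, hw1⟩ := (Subgroup.ne_bot_iff_exists_ne_one).1 (hc.wg_ne_bot_of_cube hcard)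
    refine Or.inl ⟨w, hc.hS.odd_card.of_dvd_nat (Subgroup.orderOf_dvd_natCard _ (hc.vg_le (hc.wg_le_vg hw))),
      hnorm w (hc.vg_fix (hc.wg_le_vg hw)), fun z hz => hc.wg_comm_zg hw hz, fun x hx => ?_⟩
    obtain ⟨y, hy, e⟩ := hc.wg_surj hcard hw (fun h => hw1 (Subtype.ext h)) (hS.le hx)
    exact ⟨y, hS.symm ▸ hy, e⟩

/-- A strongly embedded subgroup of a simple group is maximal. -/
theorem isCoatom_of_se [IsSimpleGroup K] (hna : ¬ IsMulCommutative K) {H : Subgroup K}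
    (hH : Cfsg.IsStronglyEmbedded H) : IsCoatom H := by
  have hm : SEB.mbar ↥H ≠ 1 := fun hm => by
    have htop := Bender.core_sup_eq_top hH (SEB.oneClass_of_mbar_eq_one hm)
    rw [CI.simple_core hna, bot_sup_eq] at htop
    exact hH.1 htop
  have hN : H.normalCore = ⊥ := (Subgroup.normalCore_normal H).eq_bot_or_eq_top.resolve_right
    fun h => hH.1 (top_le_iff.1 (h ▸ Subgroup.normalCore_le H))
  obtain ⟨g, hg⟩ : ∃ g : K, g ∉ H := by
    by_contra h
    push Not at h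
    exact hH.1 ((Subgroup.eq_top_iff' H).2 h)
  have hca : (QuotientGroup.mk g : K ⧸ H) ≠ QuotientGroup.mk 1 := fun e => hg (by
    have h := QuotientGroup.eq.1 e.symm
    simpa using h)
  have hfix : ∀ x : K, x • (QuotientGroup.mk 1 : K ⧸ H) = QuotientGroup.mk 1 ↔ x ∈ H := fun x => by
    rw [← MulAction.mem_stabilizer_iff, MulAction.stabilizer_quotient]
  obtain ⟨t₀, Q₀, hc₀, -⟩ := SEB.ctx_of_solvable hH (SEB.sol_all K H hH hm) hm hN hca
  refine ⟨hH.1, fun M hlt => ?_⟩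
  obtain ⟨m, hmM, hmH⟩ := SetLike.exists_of_lt hlt
  refine eq_top_iff.2 fun x _ => ?_
  by_cases hx : x ∈ H
  · exact hlt.le hx
  have hx' : x • (QuotientGroup.mk 1 : K ⧸ H) ≠ QuotientGroup.mk 1 := fun e => hx ((hfix x).1 e)
  have hm' : m • (QuotientGroup.mk 1 : K ⧸ H) ≠ QuotientGroup.mk 1 := fun e => hmH ((hfix m).1 e)
  obtain ⟨h, h1, h2⟩ := MulAction.is_two_pretransitive_iff.1 hc₀.hS.two_transitive hm'.symm hx'.symm
  rw [← mul_smul] at h2
  have h3 : x⁻¹ * (h * m) ∈ H := (hfix _).1 (by rw [mul_smul, h2, inv_smul_smul])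
  have := mul_mem (mul_mem (hlt.le ((hfix h).1 h1)) hmM) (hlt.le (inv_mem h3))
  rwa [show h * m * (x⁻¹ * (h * m))⁻¹ = x by group] at this

/-- The facts in a group with a strongly embedded subgroup. -/
theorem typeData_of_se [IsSimpleGroup K] (hna : ¬ IsMulCommutative K) {H : Subgroup K}
    (hH : Cfsg.IsStronglyEmbedded H) (P : Sylow 2 K) : ∃ W, TypeData P W := by
  classical
  haveI : Fact (Nat.Prime 2) := ⟨Nat.prime_two⟩
  have hna' : ∃ a b : K, a * b ≠ b * a := by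
    by_contra hc
    push Not at hc
    exact hna ⟨⟨hc⟩⟩
  have hN : H.normalCore = ⊥ := (Subgroup.normalCore_normal H).eq_bot_or_eq_top.resolve_right
    fun h => hH.1 (top_le_iff.1 (h ▸ Subgroup.normalCore_le H))
  haveI : FaithfulSMul K (K ⧸ H) := ⟨fun {g g'} e => by
    have h1 : g'⁻¹ * g ∈ H.normalCore := by
      rw [H.normalCore_eq_ker, MonoidHom.mem_ker]
      refine Equiv.ext fun x => ?_
      show (g'⁻¹ * g) • x = x
      rw [mul_smul, e, inv_smul_smul]
    rw [hN, mem_bot] at h1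
    exact (inv_mul_eq_one.1 h1).symm⟩
  have hmax : IsCoatom H := isCoatom_of_se hna hH
  obtain ⟨t, Q, hc, -, -, -, hNQ, S, hS⟩ := Bender.exists_Q SEB.sol_all hna' hmax hH
  have hM : normalizer (Q : Set K) = MulAction.stabilizer K (QuotientGroup.mk 1 : K ⧸ H) := by
    rw [hNQ, MulAction.stabilizer_quotient]
  have base : TypeData S (Lie.R1C.zg K (QuotientGroup.mk 1 : K ⧸ H)) := by
    refine ⟨hS.symm ▸ hc.zg_le_Q, fun w hw x hx => hc.zg_central hw (hS ▸ hx), cyc_zg hc,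
      fun x hx hx2 => hc.mem_zg_of_sq (hc.hS.le (hS ▸ hx)) hx2, fun x hx => hc.sq_zg_of_simple.2 x (hS ▸ hx),
      alt_of_ctx hc hS, fun α _ hP hW hm => ?_⟩
    obtain ⟨y, -, hy⟩ := hc.inner_of_fix hM α (fun x hx => hS ▸ hP x (hS.symm ▸ hx)) hW
      fun x hx => hm x (hS.symm ▸ hx)
    exact ⟨y, hy⟩
  obtain ⟨g, rfl⟩ := MulAction.exists_smul_eq K S P
  exact ⟨_, base.smul g⟩

/-- The facts in a group with abelian Sylow 2-subgroups. -/
theorem typeData_of_ab2 [IsSimpleGroup K] (hna : ¬ IsMulCommutative K) (hab : Ab2 K) (P : Sylow 2 K) :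
    ∃ W, TypeData P W := by
  haveI := hab P
  refine ⟨P, le_rfl, fun w hw x hx => congrArg Subtype.val
    (IsMulCommutative.is_comm.comm (⟨w, hw⟩ : (P : Subgroup K)) ⟨x, hx⟩),
    Walter.cyc_of_ktype hab
      (Walter.simpleStatement_of SEB.sol_all (Walter.R3.rankThreeStatement_of SEB.sol_all) K hna hab) P,
    fun x hx _ => hx, fun x hx => mul_mem hx hx,
    Or.inl ⟨1, by rw [orderOf_one]; exact odd_one, one_mem _, fun z _ => by rw [one_mul, mul_one],
      fun x hx => ⟨1, one_mem _, by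
        rw [mul_one, one_mul, inv_one, mul_one, mul_one]
        exact inv_mem hx⟩⟩, fun α hα _ hW _ => ?_⟩
  exact S4593.main (CI.simple_core hna) P (hab P) α hα hW

theorem exists_typeData [IsSimpleGroup K] (hna : ¬ IsMulCommutative K) (hT : GType K) (P : Sylow 2 K) :
    ∃ W, TypeData P W := by
  rcases hT with hab | ⟨H, hH⟩
  · exact typeData_of_ab2 hna hab P
  · exact typeData_of_se hna hH P

end Cfsg.Agent.Goldschmidt
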