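import Cfsg.Agent.Lib.Goldschmidt.Local.Component
import Cfsg.Agent.Lib.Goldschmidt.Local.TypeFacts
import Cfsg.Agent.Lib.Fusion.Product.Main

/-!
# A moved component: the facts on its simple quotient, read in the group

The image of `B ⊓ L` is the group of the involutions of a Sylow 2-subgroup of the quotient; the facts on the simple
groups of the induction are restated modulo the centre of the component.
-/

set_option autoImplicit false
set_option linter.style.haveILetI false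
set_option linter.unusedSectionVars false

namespace Cfsg.Agent.Goldschmidt

open Subgroup Cfsg.Agent Cfsg.Agent.Fusion
open Cfsg.Agent.Local.SCA (SC)
open scoped commutatorElement

universe u

variable {Y : Type u} [Group Y]

/-- The centre of a subgroup, as a subgroup of the group. -/
def cenL (L : Subgroup Y) : Subgroup Y := L ⊓ centralizer (L : Set Y)

/-- An element normalising a quasisimple subgroup and trivial modulo its centre centralises it. -/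
theorem cent_of_mod_center [Finite Y] {L : Subgroup Y} (hq : Cfsg.IsQuasisimple L) {n : Y}
    (h : ∀ l ∈ L, n * l * n⁻¹ * l⁻¹ ∈ cenL L) : n ∈ centralizer (L : Set Y) := by
  let φ : L →* Subgroup.center L := MonoidHom.mk'
    (fun l => ⟨⟨n * l * n⁻¹ * (l : Y)⁻¹, (h l l.2).1⟩, Subgroup.mem_center_iff.2 fun g => Subtype.ext
      (mem_centralizer_iff.1 (h l l.2).2 g g.2)⟩) fun l m => Subtype.ext (Subtype.ext (by
        show n * ((l * m : L) : Y) * n⁻¹ * ((l * m : L) : Y)⁻¹ = n * l * n⁻¹ * (l : Y)⁻¹ * (n * m * n⁻¹ * (m : Y)⁻¹)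
        push_cast
        have := mem_centralizer_iff.1 (h m m.2).2 _ (inv_mem l.2)
        calc n * ((l : Y) * m) * n⁻¹ * ((l : Y) * m)⁻¹
            = n * l * n⁻¹ * ((n * m * n⁻¹ * (m : Y)⁻¹) * (l : Y)⁻¹) := by group
          _ = _ := by rw [← this]; group))
  haveI := hq.1
  have hφ : commutator L ≤ φ.ker := by
    rw [_root_.commutator_def, Subgroup.commutator_le]
    intro x _ y _
    rw [MonoidHom.mem_ker, map_commutatorElement, commutatorElement_eq_one_iff_commute]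
    exact Subtype.ext ((Subgroup.mem_center_iff.1 (φ y).2 _))
  rw [Group.IsPerfect.commutator_eq_top] at hφ
  refine mem_centralizer_iff.2 fun l hl => ?_
  have := congrArg (fun w : Subgroup.center L => ((w : L) : Y)) (MonoidHom.mem_ker.1 (hφ (mem_top (⟨l, hl⟩ : L))))
  change n * l * n⁻¹ * l⁻¹ = 1 at this
  rw [mul_inv_eq_one, mul_inv_eq_iff_eq_mul] at this
  exact this.symm

/-- An element of odd order fixing `B ⊓ L` moves the rest of the Sylow subgroup of `L`. -/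
def MoverIn (B L : Subgroup Y) (S : Sylow 2 Y) : Prop :=
  ∃ w ∈ L, (∀ x ∈ (S : Subgroup Y) ⊓ L, w * x * w⁻¹ ∈ (S : Subgroup Y)) ∧ (∀ e ∈ B ⊓ L, w * e = e * w) ∧
    ∀ x ∈ (S : Subgroup Y) ⊓ L, ∃ y ∈ (S : Subgroup Y) ⊓ L, ∃ e ∈ B ⊓ L, e⁻¹ * (x⁻¹ * ⁅w, y⁆) ∈ cenL L

/-- The Suzuki shape in a component. -/
structure SzIn (B L : Subgroup Y) (S : Sylow 2 Y) (q : ℕ) : Prop where
  turn : ∃ h ∈ L, (∀ e ∈ B ⊓ L, h * e * h⁻¹ ∈ B ⊓ L) ∧
    (∀ x ∈ (S : Subgroup Y) ⊓ L, h * x * h⁻¹ ∈ (S : Subgroup Y)) ∧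
    (∀ x ∈ (S : Subgroup Y) ⊓ L, (∀ e ∈ B ⊓ L, e⁻¹ * x ∉ cenL L) → ∀ y ∈ (S : Subgroup Y) ⊓ L,
      (∀ e ∈ B ⊓ L, e⁻¹ * y ∉ cenL L) → ∃ i : ℕ, ∃ e ∈ B ⊓ L, e⁻¹ * (y⁻¹ * (h ^ i * x * (h ^ i)⁻¹)) ∈ cenL L) ∧
    ∀ n ∈ L, (∀ e ∈ B ⊓ L, n * e * n⁻¹ ∈ B ⊓ L) → ∃ i : ℕ, ∀ e ∈ B ⊓ L,
      (h ^ i * e * (h ^ i)⁻¹)⁻¹ * (n * e * n⁻¹) ∈ cenL L
  odd : ∃ n : ℕ, Odd n ∧ q = 2 ^ n
  ne : ∃ x ∈ (S : Subgroup Y) ⊓ L, ∀ e ∈ B ⊓ L, e⁻¹ * x ∉ cenL L

/-- The facts of the simple quotient. -/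
structure Coord (B L : Subgroup Y) (S : Sylow 2 Y) (q : ℕ) : Prop where
  four : 4 ≤ q
  card : Nat.card ↥(B ⊓ L) = q * Nat.card ↥(B ⊓ cenL L)
  span : ∀ b ∈ B, ∃ e ∈ B ⊓ L, e⁻¹ * b ∈ centralizer (L : Set Y)
  sq : ∀ x ∈ (S : Subgroup Y) ⊓ L, ∃ e ∈ B ⊓ L, e⁻¹ * (x * x) ∈ cenL L
  invol : ∀ x ∈ (S : Subgroup Y) ⊓ L, x * x ∈ cenL L → ∃ e ∈ B ⊓ L, e⁻¹ * x ∈ cenL L
  turn : ∃ h ∈ L, Odd (orderOf h) ∧ (∀ e ∈ B ⊓ L, h * e * h⁻¹ ∈ B ⊓ L) ∧
    (∀ e ∈ B ⊓ L, e ∉ cenL L → ∀ e' ∈ B ⊓ L, e' ∉ cenL L → ∃ i : ℕ, e'⁻¹ * (h ^ i * e * (h ^ i)⁻¹) ∈ cenL L) ∧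
    ∀ e ∈ B ⊓ L, e⁻¹ * (h ^ (q - 1) * e * (h ^ (q - 1))⁻¹) ∈ cenL L
  central : ∀ x ∈ (S : Subgroup Y) ⊓ L, ∀ e ∈ B ⊓ L, ⁅e, x⁆ ∈ cenL L
  alt : MoverIn B L S ∨ SzIn B L S q

variable [Finite Y] {B : Subgroup Y}

/-- A power of odd order acts like the element itself on a set of size `q` minus one. -/
theorem exists_odd_pow {h : Y} {N : ℕ} (hN : Odd N) :
    ∃ k : ℕ, Odd (orderOf (h ^ 2 ^ k)) ∧ ∀ i : ℕ, ∃ j : ℕ, ∃ m : ℕ, 2 ^ k * j = i + N * m := by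
  obtain ⟨k, m, hm, hord⟩ := Nat.exists_eq_pow_mul_and_not_dvd (orderOf_pos h).ne' 2 (by norm_num)
  refine ⟨k, ?_, fun i => ?_⟩
  · rw [orderOf_pow' h (pow_ne_zero k two_ne_zero), hord, Nat.gcd_mul_right_left,
      Nat.mul_div_cancel_left _ (Nat.two_pow_pos k)]
    exact Nat.odd_iff.2 (by omega)
  · obtain ⟨c, rfl⟩ := hN
    obtain ⟨d, hd⟩ : ∃ d, (2 * c + 2) ^ k = 1 + (2 * c + 1) * d := by
      induction k with
      | zero => exact ⟨0, by simp⟩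
      | succ k ih =>
        clear hord
        have : ∀ k : ℕ, ∃ d, (2 * c + 2) ^ k = 1 + (2 * c + 1) * d := by
          intro k
          induction k with
          | zero => exact ⟨0, by simp⟩
          | succ k ih =>
            obtain ⟨d, hd⟩ := ih
            exact ⟨d * (2 * c + 2) + 1, by rw [pow_succ, hd]; ring⟩
        exact this _
    exact ⟨(c + 1) ^ k * i, d * i, by rw [← mul_assoc, ← mul_pow, show 2 * (c + 1) = 2 * c + 2 by ring, hd]; ring⟩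

namespace LocalHyp

variable (hY : LocalHyp Y B) {S : Sylow 2 Y} (hBS : B ≤ (S : Subgroup Y))
include hY hBS

/-- **The facts for a moved component.** -/
theorem exists_coord {L : Subgroup Y} (hmv : Moved B L) : ∃ q : ℕ, Coord B L S q := by
  classical
  haveI : Fact (Nat.Prime 2) := ⟨Nat.prime_two⟩
  obtain ⟨hL, hnc⟩ := hmv
  have hBN : B ≤ normalizer (L : Set Y) := fun b hb => hY.normalises hBS hL hb
  obtain ⟨e₀, he₀B, he₀L, he₀⟩ : ∃ e ∈ B, e ∈ L ∧ e ∉ centralizer (L : Set Y) := by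
    by_contra hc
    push Not at hc
    exact hnc (hY.centralises hBS hL fun e he heL g hg => mem_centralizer_iff.1 (hc e he heL) g hg)
  have hP := CI.comp_sylIn hL S
  set Z := Subgroup.center L with hZ
  haveI : IsSimpleGroup (L ⧸ Z) := hL.2.2
  have hna := CI.quotient_center_nonab hL.2
  set π := QuotientGroup.mk' Z with hπ
  have hπs : Function.Surjective π := QuotientGroup.mk'_surjective Z
  have hmemZ : ∀ x : L, x ∈ Z ↔ (x : Y) ∈ cenL L := fun x => by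
    rw [hZ, Subgroup.mem_center_iff]
    refine ⟨fun h => ⟨x.2, mem_centralizer_iff.2 fun g hg => congrArg Subtype.val (h ⟨g, hg⟩)⟩,
      fun h g => Subtype.ext (mem_centralizer_iff.1 h.2 g g.2)⟩
  have hZS : ∀ z ∈ cenL L, z ∈ (S : Subgroup Y) := fun z hz =>
    CI.fitting_le_sylow hY.core S (Solv.center_component_le_fitting hL ⟨⟨z, hz.1⟩, (hmemZ _).2 hz, rfl⟩)
  obtain ⟨P, hPe⟩ := hP.exists_sylow_subgroupOf
  have hmP : ∀ x : L, x ∈ (P : Subgroup L) ↔ (x : Y) ∈ (S : Subgroup Y) := fun x => by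
    rw [hPe, mem_subgroupOf]; exact ⟨fun h => h.1, fun h => ⟨h, x.2⟩⟩
  set P' := Sylow.mapSurjective hπs P with hP'
  have hPm : (P' : Subgroup (L ⧸ Z)) = (P : Subgroup L).map π := Sylow.coe_mapSurjective hπs P
  have hπP : ∀ x : L, π x ∈ (P' : Subgroup (L ⧸ Z)) ↔ (x : Y) ∈ (S : Subgroup Y) := fun x => by
    refine ⟨fun h => ?_, fun h => hPm ▸ mem_map_of_mem π ((hmP x).2 h)⟩
    rw [hPm] at h
    obtain ⟨w, hw, e⟩ := h
    have := mul_mem ((hmP w).1 hw) (hZS _ ((hmemZ _).1 (QuotientGroup.eq.1 e)))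
    simpa using this
  -- the image of `B ⊓ L`
  set BL := B.subgroupOf L with hBL
  set W₀ := BL.map π with hW₀
  have hmW : ∀ x : L, π x ∈ W₀ ↔ ∃ e ∈ B ⊓ L, e⁻¹ * (x : Y) ∈ cenL L := fun x => by
    constructor
    · rintro ⟨w, hw, e⟩
      exact ⟨(w : Y), ⟨hw, w.2⟩, by simpa using (hmemZ _).1 (QuotientGroup.eq.1 e)⟩
    · rintro ⟨e, he, hx⟩
      refine ⟨⟨e, he.2⟩, he.1, QuotientGroup.eq.2 ((hmemZ _).2 ?_)⟩
      simpa using hx
  have hsc : Cfsg.IsStronglyClosed BL (P : Subgroup L) := by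
    refine ⟨fun x hx => (hmP x).2 (hBS hx), fun x hx g hg => ?_⟩
    have := (hmP _).1 hg
    push_cast at this
    show ((g * x * g⁻¹ : L) : Y) ∈ B
    push_cast
    exact hY.closed hBS hx this
  have hsc' : Cfsg.IsStronglyClosed W₀ (P' : Subgroup (L ⧸ Z)) := StrongProd.sc_map hsc Z
  have hW₀sq : ∀ w ∈ W₀, w * w = 1 := by
    rintro _ ⟨x, hx, rfl⟩
    rw [← map_mul, show x * x = 1 from Subtype.ext (hY.mul_self hx), map_one]
  have hW₀ne : W₀ ≠ ⊥ := fun h => he₀ (by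
    have h1 : π ⟨e₀, he₀L⟩ = 1 := mem_bot.1 (h.le (mem_map_of_mem π (show (⟨e₀, he₀L⟩ : L) ∈ BL from he₀B)))
    exact ((hmemZ _).1 ((QuotientGroup.eq_one_iff _).1 h1)).2)
  have hW₀ab : IsMulCommutative W₀ := ⟨⟨by
    rintro ⟨_, a, ha, rfl⟩ ⟨_, b, hb, rfl⟩
    refine Subtype.ext ?_
    show π a * π b = π b * π a
    rw [← map_mul, ← map_mul, show a * b = b * a from Subtype.ext (hY.mem_comm ha hb)]⟩⟩
  have hT : GType (L ⧸ Z) := hY.below (L ⧸ Z) hna W₀ hW₀ne hW₀ab ⟨P', hsc'⟩ (Nat.lt_succ_of_le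
    ((Nat.le_of_dvd Nat.card_pos (Subgroup.card_quotient_dvd_card Z)).trans
      (Nat.le_of_dvd Nat.card_pos L.card_subgroup_dvd_card)))
  obtain ⟨W, hW⟩ := exists_typeData hna hT P'
  obtain ⟨h₁, h₁N, h₁q, h₁t⟩ := hW.cyc.turn
  have hWW : W₀ = W := by
    have hle : W₀ ≤ W := fun w hw => hW.invol w (hsc'.1 hw) (hW₀sq w hw)
    refine le_antisymm hle fun w hw => ?_
    by_cases hw1 : w = 1
    · rw [hw1]; exact one_mem _
    obtain ⟨v, hv, hv1⟩ : ∃ v ∈ W₀, v ≠ 1 := by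
      by_contra hc
      push Not at hc
      exact hW₀ne ((Subgroup.eq_bot_iff_forall _).2 hc)
    obtain ⟨i, rfl⟩ := h₁t v (hle hv) hv1 w hw hw1
    exact hsc'.2 v hv _ (hW.le hw)
  subst hWW
  clear_value W₀
  set q := Nat.card W₀ with hq
  have hP2 : IsPGroup 2 W₀ := P'.2.to_le hW.le
  have hqodd : Odd (q - 1) := by
    obtain ⟨n, hn⟩ := IsPGroup.iff_card.1 hP2
    have h4 : 4 ≤ q := hW.cyc.big
    rw [hq, hn] at h4 ⊢
    have hn0 : n ≠ 0 := fun h => by rw [h] at h4; omega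
    exact Nat.Even.sub_odd (Nat.one_le_two_pow) ((Nat.even_pow' hn0).2 even_two) odd_one
  -- an element normalising `B ⊓ L`
  have hnormE : ∀ x : L, π x ∈ normalizer (W₀ : Set (L ⧸ Z)) → ∀ e ∈ B ⊓ L, (x : Y) * e * (x : Y)⁻¹ ∈ B ⊓ L := by
    intro x hx e he
    have hmem := (mem_normalizer_iff.1 hx (π ⟨e, he.2⟩)).1 ((hmW _).2 ⟨e, he, by simp⟩)
    rw [← map_inv, ← map_mul, ← map_mul, hmW] at hmem
    obtain ⟨e', he', hc⟩ := hmem
    push_cast at hc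
    have hS' : (x : Y) * e * (x : Y)⁻¹ ∈ (S : Subgroup Y) := by
      have := mul_mem (hBS he'.1) (hZS _ hc)
      rwa [mul_inv_cancel_left] at this
    exact ⟨hY.closed hBS he.1 hS', L.mul_mem (L.mul_mem x.2 he.2) (L.inv_mem x.2)⟩
  have hnormS : ∀ x : L, π x ∈ normalizer ((P' : Subgroup (L ⧸ Z)) : Set (L ⧸ Z)) →
      ∀ y ∈ (S : Subgroup Y) ⊓ L, (x : Y) * y * (x : Y)⁻¹ ∈ (S : Subgroup Y) := by
    intro x hx y hy
    have hmem := (mem_normalizer_iff.1 hx (π ⟨y, hy.2⟩)).1 ((hπP _).2 hy.1)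
    rw [← map_inv, ← map_mul, ← map_mul, hπP] at hmem
    exact hmem
  have hcoe : ∀ (x : L) (i : ℕ), (((x ^ i : L)) : Y) = (x : Y) ^ i := fun x i => SubgroupClass.coe_pow x i
  refine ⟨q, hW.cyc.big, ?_, fun b hb => ?_, fun x hx => ?_, fun x hx hx2 => ?_, ?_, fun x hx e he => ?_, ?_⟩
  · have h1 : Nat.card BL = Nat.card ↥(B ⊓ L) :=
      Nat.card_congr ⟨fun x => ⟨(x.1 : Y), x.2, x.1.2⟩, fun x => ⟨⟨(x : Y), x.2.2⟩, x.2.1⟩, fun _ => rfl, fun _ => rfl⟩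
    let f : BL →* W₀ := (π.comp BL.subtype).codRestrict W₀ fun x => (hmW _).2 ⟨((x : L) : Y), ⟨x.2, (x : L).2⟩, by simp⟩
    have hf : Function.Surjective f := fun w => by
      obtain ⟨w', hw'⟩ := hπs w.1
      obtain ⟨e, he, hec⟩ := (hmW w').1 (hw' ▸ w.2)
      refine ⟨⟨⟨e, he.2⟩, he.1⟩, Subtype.ext ?_⟩
      show π ⟨e, he.2⟩ = w.1
      rw [← hw']
      exact QuotientGroup.eq.2 ((hmemZ _).2 (by simpa using hec))
    have hk : Nat.card f.ker = Nat.card ↥(B ⊓ cenL L) := by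
      refine Nat.card_congr ⟨fun x => ⟨((x.1 : L) : Y), x.1.2, (hmemZ _).1 ((QuotientGroup.eq_one_iff _).1
        (congrArg Subtype.val (MonoidHom.mem_ker.1 x.2)))⟩, fun x => ⟨⟨⟨(x : Y), x.2.2.1⟩, x.2.1⟩,
          MonoidHom.mem_ker.2 (Subtype.ext ((QuotientGroup.eq_one_iff _).2 ((hmemZ _).2 x.2.2)))⟩,
        fun _ => rfl, fun _ => rfl⟩
    rw [← h1, ← hk, ← f.ker.card_mul_index, Subgroup.index,
      Nat.card_congr (QuotientGroup.quotientKerEquivOfSurjective f hf).toEquiv, hq, mul_comm]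
  · -- inner
    let cb : MulAut L := MulEquiv.mk' (
      { toFun := fun l => ⟨b * l * b⁻¹, (mem_normalizer_iff.1 (hBN hb) _).1 l.2⟩
        invFun := fun l => ⟨b⁻¹ * l * b, by
          have := (mem_normalizer_iff.1 (inv_mem (hBN hb)) _).1 l.2
          rwa [inv_inv] at this⟩
        left_inv := fun l => Subtype.ext (by show b⁻¹ * (b * l * b⁻¹) * b = l; group)
        right_inv := fun l => Subtype.ext (by show b * (b⁻¹ * l * b) * b⁻¹ = l; group) } : L ≃ L)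
      fun l m => Subtype.ext (by show b * ((l * m : L) : Y) * b⁻¹ = b * l * b⁻¹ * (b * m * b⁻¹); push_cast; group)
    have hcb : ∀ l : L, ((cb l : L) : Y) = b * l * b⁻¹ := fun _ => rfl
    have hZc : Z.map cb.toMonoidHom = Z := Subgroup.characteristic_iff_map_eq.1 inferInstance cb
    set α : MulAut (L ⧸ Z) := QuotientGroup.congr Z Z cb hZc with hα
    have hα' : ∀ l : L, α (π l) = π (cb l) := fun l => rfl
    have hα2 : α * α = 1 := by
      refine MulEquiv.ext fun y => ?_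
      obtain ⟨l, rfl⟩ := hπs y
      show α (α (π l)) = π l
      rw [hα', hα']
      congr 1
      refine Subtype.ext ?_
      rw [hcb, hcb]
      have := hY.mul_self hb
      calc b * (b * l * b⁻¹) * b⁻¹ = (b * b) * l * (b * b)⁻¹ := by group
        _ = l := by rw [this]; group
    obtain ⟨g', hg'⟩ := hW.inner α (by
      obtain ⟨j, -, hj⟩ := (Nat.dvd_prime_pow Nat.prime_two).1
        (show orderOf α ∣ 2 ^ 1 from orderOf_dvd_of_pow_eq_one (by rw [pow_one, pow_two, hα2]))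
      exact ⟨j, hj⟩)
      (fun y hy => by
        obtain ⟨l, rfl⟩ := hπs y
        rw [hα', hπP, hcb]
        exact mul_mem (mul_mem (hBS hb) ((hπP l).1 hy)) (inv_mem (hBS hb)))
      (fun y hy => by
        obtain ⟨l, rfl⟩ := hπs y
        obtain ⟨e, he, hec⟩ := (hmW l).1 hy
        rw [hα']
        refine QuotientGroup.eq.2 ((hmemZ _).2 ?_)
        push_cast
        rw [hcb]
        have hz : e⁻¹ * (l : Y) ∈ cenL L := hec
        have hb' : b * (e⁻¹ * (l : Y)) * b⁻¹ ∈ cenL L := by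
          refine ⟨(mem_normalizer_iff.1 (hBN hb) _).1 hz.1, mem_centralizer_iff.2 fun g hg => ?_⟩
          have hg' : b⁻¹ * g * b ∈ L := by
            have := (mem_normalizer_iff.1 (inv_mem (hBN hb)) _).1 hg
            rwa [inv_inv] at this
          have := mem_centralizer_iff.1 hz.2 _ hg'
          calc g * (b * (e⁻¹ * l) * b⁻¹) = b * ((b⁻¹ * g * b) * (e⁻¹ * l)) * b⁻¹ := by group
            _ = _ := by rw [this]; group
        have e1 : b * (l : Y) * b⁻¹ = e * (b * (e⁻¹ * l) * b⁻¹) := by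
          calc b * (l : Y) * b⁻¹ = (b * e * b⁻¹) * (b * (e⁻¹ * l) * b⁻¹) := by group
            _ = _ := by rw [hY.mem_comm hb he.1, mul_inv_cancel_right]
        have : (b * (l : Y) * b⁻¹)⁻¹ * (l : Y) = (b * (e⁻¹ * l) * b⁻¹)⁻¹ * (e⁻¹ * l) := by rw [e1]; group
        rw [this]
        exact mul_mem (inv_mem hb') hz)
      (fun y hy => by
        obtain ⟨l, rfl⟩ := hπs y
        rw [hα', ← map_inv, ← map_mul, hmW]
        refine ⟨(l : Y)⁻¹ * (b * l * b⁻¹), ⟨?_, L.mul_mem (L.inv_mem l.2) (cb l).2⟩, ?_⟩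
        · have := mul_mem (hY.sylow_conj hBS (inv_mem ((hπP l).1 hy)) hb) (inv_mem hb)
          rwa [show (l : Y)⁻¹ * b * (l : Y)⁻¹⁻¹ * b⁻¹ = (l : Y)⁻¹ * (b * l * b⁻¹) by group] at this
        · push_cast
          rw [hcb, inv_mul_cancel]
          exact one_mem _)
    -- the inner element is an involution of the Sylow subgroup
    have hcenter : Subgroup.center (L ⧸ Z) = ⊥ :=
      (inferInstance : (Subgroup.center (L ⧸ Z)).Normal).eq_bot_or_eq_top.resolve_right fun e => hna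
        ⟨⟨fun u v => Subgroup.mem_center_iff.1 (e.symm.le (mem_top v) : v ∈ Subgroup.center (L ⧸ Z)) u⟩⟩
    have hg2 : g' * g' = 1 := by
      rw [← mem_bot, ← hcenter, Subgroup.mem_center_iff]
      intro k
      have h1 : α (α k) = k := by rw [← MulAut.mul_apply, hα2, MulAut.one_apply]
      rw [hg' k, hg'] at h1
      calc k * (g' * g') = g' * (g' * k * g'⁻¹) * g'⁻¹ * (g' * g') := by rw [h1]
        _ = g' * g' * k := by group
    have hgN : g' ∈ normalizer ((P' : Subgroup (L ⧸ Z)) : Set (L ⧸ Z)) := by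
      refine mem_normalizer_fintype fun y hy => ?_
      obtain ⟨l, rfl⟩ := hπs y
      rw [← hg', hα']
      show π (cb l) ∈ (P' : Subgroup (L ⧸ Z))
      rw [hπP, hcb]
      exact mul_mem (mul_mem (hBS hb) ((hπP l).1 hy)) (inv_mem (hBS hb))
    have hgP : g' ∈ (P' : Subgroup (L ⧸ Z)) := by
      have hp : IsPGroup 2 (zpowers g') := fun x => ⟨1, by
        obtain ⟨x, hx⟩ := x
        obtain ⟨i, rfl⟩ := mem_zpowers_iff.1 hx
        refine Subtype.ext ?_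
        show (g' ^ i) ^ (2 ^ 1) = 1
        rw [pow_one, pow_two, ← (show Commute g' g' from rfl).mul_zpow, hg2, one_zpow]⟩
      have hsup := IsPGroup.to_sup_of_normal_left' P'.isPGroup' hp (zpowers_le.2 hgN)
      rw [← P'.is_maximal' hsup le_sup_left]
      exact le_sup_right (a := (P' : Subgroup (L ⧸ Z))) (mem_zpowers _)
    obtain ⟨l₀, rfl⟩ := hπs g'
    obtain ⟨e, he, hec⟩ := (hmW l₀).1 (hW.invol _ hgP hg2)
    refine ⟨e, he, cent_of_mod_center hL.2 fun l hl => ?_⟩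
    have h1 := hg' (π ⟨l, hl⟩)
    have hel : π l₀ = π ⟨e, he.2⟩ := QuotientGroup.eq.2 ((hmemZ _).2 (by
      push_cast
      have := inv_mem hec
      simpa using this))
    rw [hα', hel, ← map_inv, ← map_mul, ← map_mul] at h1
    have h2 := (hmemZ _).1 (QuotientGroup.eq.1 h1.symm)
    push_cast at h2
    rw [hcb] at h2
    -- move the difference to the other side
    have hz : (e * l * e⁻¹)⁻¹ * (b * l * b⁻¹) ∈ cenL L := by simpa [mul_assoc] using h2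
    have hcz := mem_centralizer_iff.1 hz.2
    set z := (e * l * e⁻¹)⁻¹ * (b * l * b⁻¹) with hzdef
    have heq : e⁻¹ * b * l * (e⁻¹ * b)⁻¹ * l⁻¹ = z := by
      calc e⁻¹ * b * l * (e⁻¹ * b)⁻¹ * l⁻¹ = e⁻¹ * (e * l * e⁻¹ * z) * e * l⁻¹ := by rw [hzdef]; group
        _ = l * (e⁻¹ * z) * e * l⁻¹ := by group
        _ = l * (z * e⁻¹) * e * l⁻¹ := by rw [hcz _ (inv_mem he.2)]
        _ = l * z * l⁻¹ := by group
        _ = z := by rw [hcz _ hl, mul_inv_cancel_right]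
    rw [heq]
    exact hz
  · obtain ⟨e, he, hc⟩ := (hmW (⟨x, hx.2⟩ * ⟨x, hx.2⟩)).1 (by rw [map_mul]; exact hW.mod _ ((hπP _).2 hx.1))
    exact ⟨e, he, hc⟩
  · obtain ⟨e, he, hc⟩ := (hmW ⟨x, hx.2⟩).1 (hW.invol _ ((hπP _).2 hx.1) (by
      rw [← map_mul]; exact (QuotientGroup.eq_one_iff _).2 ((hmemZ _).2 hx2)))
    exact ⟨e, he, hc⟩
  · obtain ⟨l₁, rfl⟩ := hπs h₁
    obtain ⟨k, hk, hkj⟩ := exists_odd_pow (h := (l₁ : Y)) hqodd
    have hhN : π (l₁ ^ 2 ^ k) ∈ normalizer (W₀ : Set (L ⧸ Z)) := by rw [map_pow]; exact pow_mem h₁N _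
    have hfix : ∀ m : ℕ, ∀ w ∈ W₀, π l₁ ^ ((q - 1) * m) * w * (π l₁ ^ ((q - 1) * m))⁻¹ = w := by
      intro m w hw
      induction m with
      | zero => simp
      | succ m ih =>
        calc π l₁ ^ ((q - 1) * (m + 1)) * w * (π l₁ ^ ((q - 1) * (m + 1)))⁻¹
            = π l₁ ^ ((q - 1) * m) * (π l₁ ^ (q - 1) * w * (π l₁ ^ (q - 1))⁻¹) * (π l₁ ^ ((q - 1) * m))⁻¹ := by
              rw [Nat.mul_succ, pow_add]; group
          _ = w := by rw [h₁q w hw, ih]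
    refine ⟨_, pow_mem l₁.2 (2 ^ k), hk, fun e he => by rw [← hcoe]; exact hnormE _ hhN e he,
      fun e he hec e' he' hec' => ?_, fun e he => ?_⟩
    · have hne : ∀ {u : Y} (hu : u ∈ B ⊓ L), u ∉ cenL L → π ⟨u, hu.2⟩ ≠ 1 := fun hu hu' e1 =>
        hu' ((hmemZ _).1 ((QuotientGroup.eq_one_iff _).1 e1))
      have heW : ∀ {u : Y} (hu : u ∈ B ⊓ L), π ⟨u, hu.2⟩ ∈ W₀ := fun hu => (hmW _).2 ⟨_, hu, by simp⟩
      obtain ⟨i, hi⟩ := h₁t _ (heW he) (hne he hec) _ (heW he') (hne he' hec')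
      obtain ⟨j, m, hjm⟩ := hkj i
      refine ⟨j, ?_⟩
      have h2 : π ((l₁ ^ 2 ^ k) ^ j * ⟨e, he.2⟩ * ((l₁ ^ 2 ^ k) ^ j)⁻¹) = π ⟨e', he'.2⟩ := by
        rw [map_mul, map_mul, map_inv, map_pow, map_pow, ← pow_mul, hjm, pow_add, ← hi]
        calc π l₁ ^ i * π l₁ ^ ((q - 1) * m) * π ⟨e, he.2⟩ * (π l₁ ^ i * π l₁ ^ ((q - 1) * m))⁻¹
            = π l₁ ^ i * (π l₁ ^ ((q - 1) * m) * π ⟨e, he.2⟩ * (π l₁ ^ ((q - 1) * m))⁻¹) * (π l₁ ^ i)⁻¹ := by group
          _ = _ := by rw [hfix m _ (heW he)]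
      have h3 := (hmemZ _).1 (QuotientGroup.eq.1 h2.symm)
      simpa using h3
    · have h2 : π ((l₁ ^ 2 ^ k) ^ (q - 1) * ⟨e, he.2⟩ * ((l₁ ^ 2 ^ k) ^ (q - 1))⁻¹) = π ⟨e, he.2⟩ := by
        rw [map_mul, map_mul, map_inv, map_pow, map_pow, ← pow_mul, mul_comm (2 ^ k)]
        exact hfix _ _ ((hmW _).2 ⟨e, he, by simp⟩)
      have h3 := (hmemZ _).1 (QuotientGroup.eq.1 h2.symm)
      simpa using h3
  · have h1 : π ⁅(⟨e, he.2⟩ : L), ⟨x, hx.2⟩⁆ = 1 := by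
      rw [map_commutatorElement, commutatorElement_eq_one_iff_commute]
      exact hW.central _ ((hmW _).2 ⟨e, he, by simp⟩) _ ((hπP _).2 hx.1)
    have h2 := (hmemZ _).1 ((QuotientGroup.eq_one_iff _).1 h1)
    simpa [commutatorElement_def] using h2
  · rcases hW.alt with ⟨w, hwo, hwP, hwW, hwx⟩ | ⟨⟨h₂, h₂W, h₂P, h₂t, h₂a⟩, hodd, ⟨x, hx, hxW⟩⟩
    · obtain ⟨w₁, rfl⟩ := hπs w
      obtain ⟨m, hm⟩ := hwo
      -- an odd power lifting `w`
      obtain ⟨k, hk, hkj⟩ := exists_odd_pow (h := (w₁ : Y)) (show Odd (orderOf (π w₁)) from ⟨m, hm⟩)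
      obtain ⟨j, c, hjc⟩ := hkj 1
      set w₂ := (w₁ ^ 2 ^ k) ^ j with hw₂
      have hπw : π w₂ = π w₁ := by
        rw [hw₂, map_pow, map_pow, ← pow_mul, hjc, pow_add, pow_mul, pow_orderOf_eq_one, one_pow, pow_one, mul_one]
      refine Or.inl ⟨w₂, w₂.2, fun y hy => hnormS w₂ (hπw ▸ hwP) y hy, fun e he => ?_, fun y hy => ?_⟩
      · have h1 : (w₂ : Y) * e * (w₂ : Y)⁻¹ ∈ B ⊓ L := hnormE w₂ (hπw ▸ mem_normalizer_fintype fun z hz => by
          rw [hwW z hz, mul_inv_cancel_right]; exact hz) e he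
        have h2 : π (w₂ * ⟨e, he.2⟩ * w₂⁻¹) = π ⟨e, he.2⟩ := by
          rw [map_mul, map_mul, map_inv, hπw, hwW _ ((hmW _).2 ⟨e, he, by simp⟩), mul_inv_cancel_right]
        have h3 := (hmemZ _).1 (QuotientGroup.eq.1 h2.symm)
        push_cast at h3
        set z := e⁻¹ * ((w₂ : Y) * e * (w₂ : Y)⁻¹) with hz
        have hzc := mem_centralizer_iff.1 h3.2
        have hz2 : z * z = 1 := hY.mul_self (mul_mem (inv_mem he.1) h1.1)
        have hn : ∀ n : ℕ, (w₂ : Y) ^ n * e * ((w₂ : Y) ^ n)⁻¹ = e * z ^ n := by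
          intro n
          induction n with
          | zero => simp
          | succ n ih =>
            have hcw : (w₂ : Y) * z ^ n * (w₂ : Y)⁻¹ = z ^ n := by
              rw [(Commute.pow_right (show Commute (w₂ : Y) z from hzc _ w₂.2) n).eq, mul_inv_cancel_right]
            calc (w₂ : Y) ^ (n + 1) * e * ((w₂ : Y) ^ (n + 1))⁻¹
                = w₂ * ((w₂ : Y) ^ n * e * ((w₂ : Y) ^ n)⁻¹) * (w₂ : Y)⁻¹ := by rw [pow_succ']; group
              _ = ((w₂ : Y) * e * (w₂ : Y)⁻¹) * ((w₂ : Y) * z ^ n * (w₂ : Y)⁻¹) := by rw [ih]; group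
              _ = e * z ^ (n + 1) := by
                rw [hcw, pow_succ', ← mul_assoc, show e * z = (w₂ : Y) * e * (w₂ : Y)⁻¹ by rw [hz]; group]
        have ho : Odd (orderOf (w₂ : Y)) := by
          rw [hw₂, hcoe, hcoe]
          exact hk.of_dvd_nat (orderOf_pow_dvd j)
        have h4 := hn (orderOf (w₂ : Y))
        rw [pow_orderOf_eq_one, one_mul, inv_one, mul_one, left_eq_mul] at h4
        obtain ⟨d, hd⟩ := ho
        rw [hd, pow_succ, pow_mul, pow_two, hz2, one_pow, one_mul, hz, inv_mul_eq_one] at h4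
        conv_rhs => rw [h4]
        group
      · obtain ⟨y', hy', hyc⟩ := hwx (π ⟨y, hy.2⟩) ((hπP _).2 hy.1)
        obtain ⟨y₁, rfl⟩ := hπs y'
        rw [← hπw, ← map_inv, ← map_inv, ← map_inv, ← map_mul, ← map_mul, ← map_mul, ← map_mul, hmW] at hyc
        obtain ⟨e, he, hc⟩ := hyc
        exact ⟨(y₁ : Y), ⟨(hπP _).1 hy', y₁.2⟩, e, he, by simpa [commutatorElement_def, mul_assoc] using hc⟩
    · obtain ⟨l₂, rfl⟩ := hπs h₂
      obtain ⟨x, rfl⟩ := hπs x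
      have hout : ∀ {y : Y} (hy : y ∈ L), (∀ e ∈ B ⊓ L, e⁻¹ * y ∉ cenL L) → π ⟨y, hy⟩ ∉ W₀ := fun hy hy' hc => by
        obtain ⟨e, he, h⟩ := (hmW _).1 hc
        exact hy' e he h
      refine Or.inr ⟨⟨(l₂ : Y), l₂.2, fun e he => hnormE l₂ h₂W e he, fun y hy => hnormS l₂ h₂P y hy,
        fun y hy hy' y' hy'' hy3 => ?_, fun n hn hnE => ?_⟩, hodd, (x : Y), ⟨(hπP _).1 hx, x.2⟩,
          fun e he hc => hxW ((hmW x).2 ⟨e, he, hc⟩)⟩
      · obtain ⟨i, hi⟩ := h₂t _ ((hπP ⟨y, hy.2⟩).2 hy.1) (hout hy.2 hy') _ ((hπP ⟨y', hy''.2⟩).2 hy''.1)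
          (hout hy''.2 hy3)
        rw [← map_pow, ← map_inv, ← map_inv, ← map_mul, ← map_mul, ← map_mul, hmW] at hi
        obtain ⟨e, he, hc⟩ := hi
        exact ⟨i, e, he, by simpa [mul_assoc] using hc⟩
      · obtain ⟨i, hi⟩ := h₂a (π ⟨n, hn⟩) (mem_normalizer_fintype fun w hw => by
          obtain ⟨l, rfl⟩ := hπs w
          obtain ⟨e, he, hc⟩ := (hmW l).1 hw
          rw [← map_inv, ← map_mul, ← map_mul]
          refine (hmW _).2 ⟨n * e * n⁻¹, hnE e he, ?_⟩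
          push_cast
          have hcn := mem_centralizer_iff.1 hc.2 n hn
          rw [show (n * e * n⁻¹)⁻¹ * (n * (l : Y) * n⁻¹) = n * (e⁻¹ * l) * n⁻¹ by group, hcn, mul_inv_cancel_right]
          exact hc)
        refine ⟨i, fun e he => ?_⟩
        have h2 : π (⟨n, hn⟩ * ⟨e, he.2⟩ * (⟨n, hn⟩ : L)⁻¹) = π (l₂ ^ i * ⟨e, he.2⟩ * (l₂ ^ i)⁻¹) := by
          rw [map_mul, map_mul, map_inv, map_mul, map_mul, map_inv, map_pow]
          exact hi _ ((hmW _).2 ⟨e, he, by simp⟩)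
        have h3 := (hmemZ _).1 (QuotientGroup.eq.1 h2.symm)
        simpa using h3

end LocalHyp

end Cfsg.Agent.Goldschmidt
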