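import Cfsg.Agent.Lib.Goldschmidt.Local.Bad

/-!
# The local theorem

The moved components form an invariant set, the strongly closed group lies in their product times a normal 2-group, and
the normaliser of the group covers the quotient.
-/

set_option autoImplicit false
set_option linter.style.haveILetI false
set_option linter.unusedSectionVars false

namespace Cfsg.Agent.Goldschmidt

open Subgroup Cfsg.Agent Cfsg.Agent.Fusion
open scoped commutatorElement

universe u

variable {Y : Type u} [Group Y] [Finite Y] {B : Subgroup Y}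

namespace AbHyp

variable (hY : AbHyp Y B) {S : Sylow 2 Y} (hBS : B ≤ (S : Subgroup Y))
include hY hBS

/-- An element of `B` centralising every component lies in `O₂`. -/
theorem mem_pCore {b : Y} (hb : b ∈ B) (hcen : ∀ L : Subgroup Y, Cfsg.IsComponent L → b ∈ centralizer (L : Set Y)) :
    b ∈ Cfsg.pCore 2 Y := by
  classical
  set F := Cfsg.fittingSubgroup Y with hFdef
  haveI hFn : F.Normal := Solv.fittingSubgroup_normal
  have hFS : F ≤ (S : Subgroup Y) := CI.fitting_le_sylow hY.core S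
  set D := B ⊓ F with hD
  haveI hDn : D.Normal := ⟨fun x hx y =>
    ⟨hY.closed hBS hx.1 (hFS (hFn.conj_mem x hx.2 y)), hFn.conj_mem x hx.2 y⟩⟩
  let K : Subgroup Y :=
    { carrier := {k | (∀ L : Subgroup Y, Cfsg.IsComponent L → k ∈ centralizer (L : Set Y)) ∧
        (∀ d ∈ D, k * d = d * k) ∧ ∀ f ∈ F, k * f * k⁻¹ * f⁻¹ ∈ D}
      one_mem' := ⟨fun L _ => one_mem _, fun d _ => by rw [one_mul, mul_one], fun f _ => by simp⟩
      mul_mem' := fun {k k'} hk hk' => ⟨fun L hL => mul_mem (hk.1 L hL) (hk'.1 L hL),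
        fun d hd => by rw [mul_assoc, hk'.2.1 d hd, ← mul_assoc, hk.2.1 d hd, mul_assoc],
        fun f hf => by
          rw [show k * k' * f * (k * k')⁻¹ * f⁻¹ = k * (k' * f * k'⁻¹ * f⁻¹) * k⁻¹ * (k * f * k⁻¹ * f⁻¹) by group]
          exact D.mul_mem (hDn.conj_mem _ (hk'.2.2 f hf) k) (hk.2.2 f hf)⟩
      inv_mem' := fun {k} hk => ⟨fun L hL => inv_mem (hk.1 L hL),
        fun d hd => by rw [inv_mul_eq_iff_eq_mul, ← mul_assoc, hk.2.1 d hd, mul_inv_cancel_right],
        fun f hf => by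
          have := hk.2.2 _ (hFn.conj_mem f hf k⁻¹)
          have h2 := D.inv_mem this
          convert h2 using 1
          group⟩ }
  have hKn : K.Normal := ⟨fun k hk y => ⟨fun L hL => mem_centralizer_iff.2 fun l hl => by
      have h1 := mem_centralizer_iff.1 (hk.1 _ (Solv.component_conj hL y⁻¹)) (y⁻¹ * l * y)
        ⟨l, hl, by show y⁻¹ * l * y⁻¹⁻¹ = _; rw [inv_inv]⟩
      calc l * (y * k * y⁻¹) = y * ((y⁻¹ * l * y) * k) * y⁻¹ := by group
        _ = _ := by rw [h1]; group,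
    fun d hd => by
      have h1 := hk.2.1 _ (hDn.conj_mem d hd y⁻¹)
      calc y * k * y⁻¹ * d = y * (k * (y⁻¹ * d * y⁻¹⁻¹)) * y⁻¹ := by group
        _ = _ := by rw [h1]; group,
    fun f hf => by
      have h1 := hDn.conj_mem _ (hk.2.2 _ (hFn.conj_mem f hf y⁻¹)) y
      convert h1 using 1
      group⟩⟩
  have hK2 : IsPGroup 2 K := by
    rintro ⟨k, hk⟩
    obtain ⟨i, m, hm, hord⟩ := Nat.exists_eq_pow_mul_and_not_dvd (orderOf_pos k).ne' 2 (by norm_num)
    refine ⟨i, Subtype.ext ?_⟩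
    show k ^ 2 ^ i = 1
    set w := k ^ 2 ^ i with hw
    have hwK : w ∈ K := K.pow_mem hk _
    have hwo : w ^ m = 1 := by rw [hw, ← pow_mul, ← hord, pow_orderOf_eq_one]
    -- an element of odd order centralises the chain
    have hwF : ∀ f ∈ F, f * w = w * f := by
      intro f hf
      set d := w * f * w⁻¹ * f⁻¹ with hd
      have hdD : d ∈ D := hwK.2.2 f hf
      have hn : ∀ n : ℕ, w ^ n * f * (w ^ n)⁻¹ = d ^ n * f := by
        intro n
        induction n with
        | zero => simp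
        | succ n ih =>
          have hwd : w * d ^ n * w⁻¹ = d ^ n := by
            rw [hwK.2.1 _ (D.pow_mem hdD n), mul_inv_cancel_right]
          calc w ^ (n + 1) * f * (w ^ (n + 1))⁻¹ = w * (w ^ n * f * (w ^ n)⁻¹) * w⁻¹ := by rw [pow_succ']; group
            _ = (w * d ^ n * w⁻¹) * (w * f * w⁻¹) := by rw [ih]; group
            _ = d ^ (n + 1) * f := by rw [hwd, pow_succ, hd]; group
      have h1 := hn m
      rw [hwo, one_mul, inv_one, mul_one, right_eq_mul] at h1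
      obtain ⟨j, hj⟩ := hY.pGroup ⟨d, hdD.1⟩
      have hj' : d ^ 2 ^ j = 1 := congrArg Subtype.val hj
      have hd1 : d = 1 := orderOf_eq_one_iff.1 (Nat.eq_one_of_dvd_coprimes
        ((Nat.coprime_two_left.2 (Nat.odd_iff.2 (by omega) : Odd m)).symm.pow_right j)
        (orderOf_dvd_of_pow_eq_one h1) (orderOf_dvd_of_pow_eq_one hj'))
      rw [hd, mul_inv_eq_one, mul_inv_eq_iff_eq_mul] at hd1
      exact hd1.symm
    have hwg : w ∈ centralizer (Cfsg.generalizedFittingSubgroup Y : Set Y) := by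
      refine mem_centralizer_iff.2 fun x hx => ?_
      have hle : Cfsg.generalizedFittingSubgroup Y ≤ centralizer ({w} : Set Y) := sup_le
        (sSup_le fun L hL l hl => mem_centralizer_singleton_iff.2 (mem_centralizer_iff.1 (hwK.1 L hL) l hl))
        fun f hf => mem_centralizer_singleton_iff.2 (hwF f hf)
      exact mem_centralizer_singleton_iff.1 (hle hx)
    obtain ⟨j, hj⟩ := CI.fitting_two hY.core ⟨w, GW.centralizer_gfit_le_fit hwg⟩
    have hj' : w ^ 2 ^ j = 1 := congrArg Subtype.val hj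
    have h2 : Nat.Coprime m (2 ^ j) := (Nat.coprime_two_left.2 (Nat.odd_iff.2 (by omega))).symm.pow_right _
    exact orderOf_eq_one_iff.1 (Nat.eq_one_of_dvd_coprimes h2 (orderOf_dvd_of_pow_eq_one hwo)
      (orderOf_dvd_of_pow_eq_one hj'))
  refine le_sSup (show K ∈ {N : Subgroup Y | N.Normal ∧ IsPGroup 2 N} from ⟨hKn, hK2⟩)
    ⟨hcen, fun d hd => hY.mem_comm hb hd.1, fun f hf => ⟨?_, ?_⟩⟩
  · rw [show b * f * b⁻¹ * f⁻¹ = b * (f * b⁻¹ * f⁻¹) by group]
    exact B.mul_mem hb (hY.sylow_conj hBS (hFS hf) (B.inv_mem hb))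
  · exact F.mul_mem (hFn.conj_mem f hf b) (F.inv_mem hf)

end AbHyp

namespace LocalHyp

variable (hY : LocalHyp Y B) {S : Sylow 2 Y} (hBS : B ≤ (S : Subgroup Y))
include hY hBS

theorem exists_noncentral {L : Subgroup Y} (hmv : Moved B L) : ∃ e ∈ B ⊓ L, e ∉ centralizer (L : Set Y) := by
  by_contra hc
  push Not at hc
  exact hmv.2 (hY.centralises hBS hmv.1 fun e he heL g hg => mem_centralizer_iff.1 (hc e ⟨he, heL⟩) g hg)

theorem moved_map {L : Subgroup Y} (hmv : Moved B L) (y : Y) : Moved B (L.map (MulAut.conj y).toMonoidHom) := by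
  refine ⟨Solv.component_conj hmv.1 y, fun hc => ?_⟩
  set L' := L.map (MulAut.conj y).toMonoidHom with hL'
  have hL'c := Solv.component_conj hmv.1 y
  obtain ⟨e, he, hne⟩ := hY.exists_noncentral hBS hmv
  haveI : Fact (Nat.Prime 2) := ⟨Nat.prime_two⟩
  have hmem : y * e * y⁻¹ ∈ L' := ⟨e, he.2, rfl⟩
  obtain ⟨g, hg, hgS⟩ := (CI.comp_sylIn hL'c S).conj_le
    (IsPGroup.to_le (isPGroup_cj hY.pGroup y) (zpowers_le.2 ⟨e, he.1, rfl⟩))
    (zpowers_le.2 hmem)
  have h1 : g * (y * e * y⁻¹) * g⁻¹ ∈ (S : Subgroup Y) ⊓ L' := hgS ⟨_, mem_zpowers _, rfl⟩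
  have h2 : g * y * e * (g * y)⁻¹ ∈ B := hY.closed hBS he.1 (by
    rw [show g * y * e * (g * y)⁻¹ = g * (y * e * y⁻¹) * g⁻¹ by group]; exact h1.1)
  refine hne (mem_centralizer_iff.2 fun l hl => ?_)
  have h3 := mem_centralizer_iff.1 (hc h2) _
    (L'.mul_mem (L'.mul_mem hg (show y * l * y⁻¹ ∈ L' from ⟨l, hl, rfl⟩)) (L'.inv_mem hg))
  have h4 : (g * y) * (l * e) * (g * y)⁻¹ = (g * y) * (e * l) * (g * y)⁻¹ := by
    calc (g * y) * (l * e) * (g * y)⁻¹ = g * (y * l * y⁻¹) * g⁻¹ * (g * y * e * (g * y)⁻¹) := by group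
      _ = g * y * e * (g * y)⁻¹ * (g * (y * l * y⁻¹) * g⁻¹) := h3
      _ = _ := by group
  exact mul_left_cancel (mul_right_cancel h4)

theorem movedLayer_normal : (movedLayer B).Normal := by
  refine normal_iff_cj.2 fun y => Fusion.cj_eq_of_cj_le ?_
  rw [movedLayer, sSup_eq_iSup']
  refine (Subgroup.map_iSup _ _).le.trans (iSup_le fun L => ?_)
  exact le_iSup (fun L : {L // L ∈ {L | Moved B L}} => L.1) ⟨_, hY.moved_map hBS L.2 y⟩

/-- Finitely many moved components absorb `b`. -/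
theorem absorb {b : Y} (hb : b ∈ B) (s : Finset (Subgroup Y)) (hs : ∀ L ∈ s, Moved B L) :
    ∃ e ∈ B ⊓ movedLayer B, (∀ L ∈ s, e⁻¹ * b ∈ centralizer (L : Set Y)) ∧
      ∀ L : Subgroup Y, Cfsg.IsComponent L → L ∉ s → e ∈ centralizer (L : Set Y) := by
  classical
  induction s using Finset.induction_on with
  | empty => exact ⟨1, one_mem _, fun L hL => absurd hL (Finset.notMem_empty L), fun L _ _ => one_mem _⟩
  | insert L₀ s hL₀ ih =>
    obtain ⟨e, he, hin, hout⟩ := ih fun L hL => hs L (Finset.mem_insert_of_mem hL)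
    have hmv := hs L₀ (Finset.mem_insert_self _ _)
    obtain ⟨q, hC⟩ := hY.exists_coord hBS hmv
    obtain ⟨e₀, he₀, hc₀⟩ := hC.span b hb
    have hle : L₀ ≤ movedLayer B := le_sSup hmv
    have hother : ∀ L : Subgroup Y, Cfsg.IsComponent L → L ≠ L₀ → e₀ ∈ centralizer (L : Set Y) :=
      fun L hL hne => commutator_eq_bot_iff_le_centralizer.1 (Solv.components_commute hmv.1 hL (Ne.symm hne)) he₀.2
    refine ⟨e * e₀, ⟨B.mul_mem he.1 he₀.1, mul_mem he.2 (hle he₀.2)⟩, fun L hL => ?_, fun L hL hne => ?_⟩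
    · rw [show (e * e₀)⁻¹ * b = e₀⁻¹ * (e⁻¹ * b) by group]
      rcases Finset.mem_insert.1 hL with rfl | hL'
      · rw [show e₀⁻¹ * (e⁻¹ * b) = e⁻¹ * (e₀⁻¹ * b) by
          rw [← mul_assoc, ← mul_assoc, hY.mem_comm (inv_mem he₀.1) (inv_mem he.1)]]
        exact mul_mem (inv_mem (hout _ hmv.1 hL₀)) hc₀
      · exact mul_mem (inv_mem (hother L (hs L hL).1 fun h => hL₀ (h ▸ hL'))) (hin L hL')
    · exact mul_mem (hout L hL fun h => hne (Finset.mem_insert_of_mem h))
        (hother L hL fun h => hne (h ▸ Finset.mem_insert_self L₀ s))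

/-- An element of `B` centralising every component lies in `O₂`. -/
theorem mem_pCore {b : Y} (hb : b ∈ B) (hcen : ∀ L : Subgroup Y, Cfsg.IsComponent L → b ∈ centralizer (L : Set Y)) :
    b ∈ Cfsg.pCore 2 Y :=
  hY.abHyp.mem_pCore hBS hb hcen

theorem le_movedLayer_sup : B ≤ movedLayer B ⊔ Cfsg.pCore 2 Y := by
  classical
  haveI := Fintype.ofFinite (Subgroup Y)
  intro b hb
  obtain ⟨e, he, hin, hout⟩ := hY.absorb hBS hb (Finset.univ.filter fun L => Moved B L) fun L hL =>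
    (Finset.mem_filter.1 hL).2
  rw [show b = e * (e⁻¹ * b) by group]
  refine mul_mem (mem_sup_left he.2) (mem_sup_right (hY.mem_pCore hBS (B.mul_mem (B.inv_mem he.1) hb) fun L hL => ?_))
  by_cases hmv : Moved B L
  · exact hin L (Finset.mem_filter.2 ⟨Finset.mem_univ _, hmv⟩)
  · exact mul_mem (inv_mem (hout L hL fun h => hmv (Finset.mem_filter.1 h).2))
      ((not_not.1 fun hc => hmv ⟨hL, hc⟩) hb)

end LocalHyp

/-- **The local theorem.** -/
theorem localStatement : LocalStatement.{u} := by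
  intro Y _ _ B hY
  obtain ⟨S, hBS⟩ := hY.exists_sylow
  haveI : (movedLayer B).Normal := hY.movedLayer_normal hBS
  haveI : (Cfsg.pCore 2 Y).Normal := Solv.pCore_normal 2
  have hle := hY.le_movedLayer_sup hBS
  refine ⟨fun L hmv hd => ?_, fun L hmv hd => ?_, fun L hmv y => hY.moved_map hBS hmv y,
    Subgroup.normalClosure_le_normal hle, fun y => ?_⟩
  · obtain ⟨q, hC⟩ := hY.exists_coord hBS hmv
    exact hY.pairData_of_disj hBS hmv hC hd
  · obtain ⟨q, hC⟩ := hY.exists_coord hBS hmv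
    exact hY.badData_of_not_disj hBS hmv hC hd
  have h2 : IsPGroup 2 (Cfsg.pCore 2 Y) := Solv.pCore_isPGroup 2
  haveI : Fact (Nat.Prime 2) := ⟨Nat.prime_two⟩
  have hO : Cfsg.pCore 2 Y ≤ normalizer (B : Set Y) := fun f hf =>
    mem_normalizer_fintype fun a ha => hY.sylow_conj hBS (h2.le_sylow_of_normal S hf) ha
  obtain ⟨k, hk, hkB⟩ := hY.sc.conj_in hle (g := y) fun x hx => by
    obtain ⟨a, ha, rfl⟩ := hx
    exact (sup_normal (movedLayer B) (Cfsg.pCore 2 Y)).conj_mem a (hle ha) y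
  rw [← SetLike.mem_coe, Subgroup.normal_mul] at hk
  obtain ⟨n, hn, f, hf, rfl⟩ := hk
  refine ⟨n⁻¹, inv_mem hn, mem_normalizer_iff_cj.2 ?_⟩
  rw [← cj_cj B y n⁻¹, hkB, ← cj_cj B f n, cj_eq_self (hO hf), cj_cj, inv_mul_cancel]
  exact cj_one B

end Cfsg.Agent.Goldschmidt
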