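import Cfsg.Agent.Lib.Goldschmidt.Local.Pair

/-!
# A component whose Sylow subgroup acts on the strongly closed group by transvections

The Suzuki shape: every class modulo the centre contains a square, whose root acts non-trivially on the group; an
involution normalising the component is trivial on the quotient.
-/

set_option autoImplicit false
set_option linter.style.haveILetI false
set_option linter.unusedSectionVars false

namespace Cfsg.Agent.Goldschmidt

open Subgroup Cfsg.Agent Cfsg.Agent.Fusion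
open scoped commutatorElement

universe u

/-- An involution normalising a group regular on the involutions of an elementary group of order an odd power of two
centralises the latter. -/
theorem trivial_of_regular {V : Type u} [CommGroup V] [Finite V] (hV : ∀ v : V, v * v = 1) {n : ℕ} (hn : Odd n)
    (hcard : Nat.card V = 2 ^ n) {c μ : MulAut V} (htr : ∀ v w : V, v ≠ 1 → w ≠ 1 → ∃ i : ℕ, (c ^ i) v = w)
    (hμ2 : μ * μ = 1) {j : ℕ} (hμc : μ * c * μ⁻¹ = c ^ j) : μ = 1 := by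
  classical
  -- the fixed points are half of the exponent at least
  let φ : V →* V := MonoidHom.mk' (fun v => v * μ v) fun a b => by rw [map_mul]; exact mul_mul_mul_comm a b (μ a) (μ b)
  let F : Subgroup V :=
    { carrier := {v | μ v = v}
      one_mem' := map_one μ
      mul_mem' := fun {a b} (ha : μ a = a) (hb : μ b = b) => by show μ (a * b) = a * b; rw [map_mul, ha, hb]
      inv_mem' := fun {a} (ha : μ a = a) => by show μ a⁻¹ = a⁻¹; rw [map_inv, ha] }
  have hμμ : ∀ v, μ (μ v) = v := fun v => by rw [← MulAut.mul_apply, hμ2, MulAut.one_apply]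
  have hker : φ.ker = F := by
    ext v
    rw [MonoidHom.mem_ker]
    show v * μ v = 1 ↔ μ v = v
    rw [mul_eq_one_iff_eq_inv, inv_eq_of_mul_eq_one_left (hV (μ v))]
    exact eq_comm
  have hrng : φ.range ≤ F := by
    rintro _ ⟨v, rfl⟩
    show μ (v * μ v) = v * μ v
    rw [map_mul, hμμ, mul_comm]
  have hsq : Nat.card V ≤ Nat.card F * Nat.card F := by
    rw [← φ.ker.card_mul_index, Subgroup.index, Nat.card_congr (QuotientGroup.quotientKerEquivRange φ).toEquiv, hker]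
    exact Nat.mul_le_mul_left _ (Subgroup.card_le_of_le hrng)
  haveI : Fact (Nat.Prime 2) := ⟨Nat.prime_two⟩
  obtain ⟨d, hd⟩ := IsPGroup.iff_card.1 (show IsPGroup 2 F from fun v => ⟨1, Subtype.ext (by
    show (v : V) ^ (2 ^ 1) = 1
    rw [pow_one, pow_two, hV])⟩)
  obtain ⟨m, hm⟩ := hn
  have hd1 : n ≤ d + d := by
    rw [hcard, hd, ← pow_add] at hsq
    exact (Nat.pow_le_pow_iff_right one_lt_two).1 hsq
  obtain ⟨v₀, hv₀, hv₀1⟩ : ∃ v ∈ F, v ≠ 1 := by
    by_contra h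
    push Not at h
    rw [(Subgroup.eq_bot_iff_forall _).2 h, Subgroup.card_bot] at hd
    have : d = 0 := by
      rcases Nat.eq_zero_or_pos d with h0 | h0
      · exact h0
      · exact absurd hd (Nat.one_lt_two_pow (n := d) (by omega)).ne
    omega
  have hμi : ∀ i : ℕ, μ * c ^ i * μ⁻¹ = c ^ (j * i) := fun i => by rw [← conj_pow, hμc, pow_mul]
  have hfree : ∀ k ∈ zpowers c, k v₀ = v₀ → k = 1 := by
    intro k hk hkv
    refine MulEquiv.ext fun v => ?_
    rw [MulAut.one_apply]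
    by_cases hv : v = 1
    · rw [hv, map_one]
    obtain ⟨i, rfl⟩ := htr v₀ v hv₀1 hv
    have hcomm : Commute k (c ^ i) := by
      obtain ⟨z, rfl⟩ := mem_zpowers_iff.1 hk
      exact ((Commute.refl c).zpow_left z).pow_right i
    rw [← MulAut.mul_apply, hcomm.eq, MulAut.mul_apply, hkv]
  let H : Subgroup (MulAut V) := centralizer ({μ} : Set (MulAut V)) ⊓ zpowers c
  have hmemH : ∀ k, k ∈ H → μ * k = k * μ := fun k hk =>
    (mem_centralizer_singleton_iff.1 hk.1).symm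
  let g : H → {v : F // v ≠ 1} := fun k => ⟨⟨k.1 v₀, by
      show μ (k.1 v₀) = k.1 v₀
      rw [← MulAut.mul_apply, hmemH _ k.2, MulAut.mul_apply, show μ v₀ = v₀ from hv₀]⟩,
    fun e => hv₀1 ((map_eq_one_iff _ k.1.injective).1 (congrArg Subtype.val e))⟩
  have hg : Function.Bijective g := by
    refine ⟨fun k k' e => ?_, fun v => ?_⟩
    · have e' : k.1 v₀ = k'.1 v₀ := congrArg (fun w : {v : F // v ≠ 1} => ((w.1 : F) : V)) e
      refine Subtype.ext (inv_mul_eq_one.1 (hfree _ (mul_mem (inv_mem k'.2.2) k.2.2) ?_)).symm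
      rw [MulAut.mul_apply, e', ← MulAut.mul_apply, inv_mul_cancel, MulAut.one_apply]
    · obtain ⟨i, hi⟩ := htr v₀ v.1 hv₀1 fun e => v.2 (Subtype.ext e)
      have hfix : (c ^ (j * i)) v₀ = (c ^ i) v₀ := by
        rw [← hμi, MulAut.mul_apply, MulAut.mul_apply, show μ⁻¹ v₀ = v₀ from μ.injective (by
          rw [← MulAut.mul_apply, mul_inv_cancel, MulAut.one_apply, show μ v₀ = v₀ from hv₀]), hi]
        exact v.1.2
      have heq : c ^ (j * i) = c ^ i := by
        refine (inv_mul_eq_one.1 (hfree _ (mul_mem (inv_mem (pow_mem (mem_zpowers c) _)) (pow_mem (mem_zpowers c) _))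
          ?_)).symm
        rw [MulAut.mul_apply, hfix, ← MulAut.mul_apply, inv_mul_cancel, MulAut.one_apply]
      refine ⟨⟨c ^ i, mem_centralizer_singleton_iff.2 ?_, pow_mem (mem_zpowers c) i⟩, Subtype.ext (Subtype.ext hi)⟩
      have h1 := hμi i
      rw [heq, mul_inv_eq_iff_eq_mul] at h1
      exact h1.symm
  haveI := Fintype.ofFinite F
  have h1 : Nat.card H = 2 ^ d - 1 := by
    rw [Nat.card_eq_of_bijective g hg, Nat.card_eq_fintype_card, Fintype.card_subtype_compl, Fintype.card_subtype_eq,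
      ← Nat.card_eq_fintype_card, hd]
  have h2 : Nat.card (zpowers c) = 2 ^ n - 1 := by
    haveI := Fintype.ofFinite V
    have hcard' : Nat.card {v : V // v ≠ 1} = 2 ^ n - 1 := by
      rw [Nat.card_eq_fintype_card, Fintype.card_subtype_compl, Fintype.card_subtype_eq, ← Nat.card_eq_fintype_card,
        hcard]
    rw [← hcard']
    refine Nat.card_eq_of_bijective (fun k => ⟨k.1 v₀, fun e => hv₀1 ((map_eq_one_iff _ k.1.injective).1 e)⟩)
      ⟨fun k k' e => ?_, fun v => ?_⟩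
    · have e' : k.1 v₀ = k'.1 v₀ := congrArg Subtype.val e
      refine Subtype.ext (inv_mul_eq_one.1 (hfree _ (mul_mem (inv_mem k'.2) k.2) ?_)).symm
      rw [MulAut.mul_apply, e', ← MulAut.mul_apply, inv_mul_cancel, MulAut.one_apply]
    · obtain ⟨i, hi⟩ := htr v₀ v.1 hv₀1 v.2
      exact ⟨⟨c ^ i, pow_mem (mem_zpowers c) i⟩, Subtype.ext hi⟩
  have hdvd : 2 ^ d - 1 ∣ 2 ^ n - 1 := h1 ▸ h2 ▸ Subgroup.card_dvd_of_le inf_le_right
  have hdn : d ∣ n := by
    have := (Nat.pow_sub_one_gcd_pow_sub_one 2 d n).symm.trans (Nat.gcd_eq_left hdvd)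
    rw [← Nat.gcd_eq_left_iff_dvd]
    refine Nat.pow_right_injective le_rfl ?_
    have := Nat.one_le_two_pow (n := d)
    have := Nat.one_le_two_pow (n := d.gcd n)
    show 2 ^ d.gcd n = 2 ^ d
    omega
  obtain ⟨a, ha⟩ := hdn
  have ha1 : a = 1 := by
    rcases a with _ | _ | a
    · omega
    · rfl
    · rcases a with _ | a
      · omega
      · have h5 : d * 3 ≤ n := ha ▸ Nat.mul_le_mul_left d (by omega)
        omega
  have hFV : F = ⊤ := Subgroup.eq_top_of_card_eq _ (by rw [hd, hcard, ha, ha1, mul_one])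
  refine MulEquiv.ext fun v => ?_
  exact (hFV.symm.le (mem_top v) : v ∈ F)

variable {Y : Type u} [Group Y] [Finite Y] {B L : Subgroup Y}

namespace LocalHyp

variable (hY : LocalHyp Y B) {S : Sylow 2 Y} (hBS : B ≤ (S : Subgroup Y))
include hY hBS

/-- **A bad component.** -/
theorem badData_of_not_disj (hmv : Moved B L) {q : ℕ} (hC : Coord B L S q)
    (hd : tPart B L ⊓ rPart B L ≠ ⊥) : BadData B L := by
  classical
  obtain ⟨x₁, hx₁, e₁, he₁, hne⟩ : ∃ x ∈ (S : Subgroup Y) ⊓ L, ∃ e ∈ B ⊓ L, x * e ≠ e * x := by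
    by_contra hc
    push Not at hc
    exact hd (hY.disj_of_comm hBS hmv.1 hC hc)
  obtain ⟨⟨h, hhL, hhE, hhS, hht, hha⟩, ⟨n, hn, hqn⟩, ⟨x₀, hx₀, hx₀W⟩⟩ :=
    hC.alt.resolve_left fun hm => hne (hY.comm_of_mover hBS hC hm x₁ hx₁ e₁ he₁)
  obtain ⟨hs, hhsL, -, hhsE, htr, -⟩ := hC.turn
  have hcz : ∀ {z l : Y}, z ∈ cenL L → l ∈ L → l * z = z * l := fun hz hl => mem_centralizer_iff.1 hz.2 _ hl
  have hlR : ∀ {r l : Y}, r ∈ rPart B L → l ∈ L → l * r = r * l := fun hr hl => mem_centralizer_iff.1 hr.2 _ hl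
  have hpowE : ∀ (i : ℕ), ∀ e ∈ B ⊓ L, h ^ i * e * (h ^ i)⁻¹ ∈ B ⊓ L := by
    intro i e he
    induction i with
    | zero => simpa using he
    | succ i ih =>
      rw [pow_succ', show h * h ^ i * e * (h * h ^ i)⁻¹ = h * (h ^ i * e * (h ^ i)⁻¹) * h⁻¹ by group]
      exact hhE _ ih
  have hpowS : ∀ (i : ℕ), ∀ x ∈ (S : Subgroup Y) ⊓ L, h ^ i * x * (h ^ i)⁻¹ ∈ (S : Subgroup Y) ⊓ L := by
    intro i x hx
    induction i with
    | zero => simpa using hx
    | succ i ih =>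
      rw [pow_succ', show h * h ^ i * x * (h * h ^ i)⁻¹ = h * (h ^ i * x * (h ^ i)⁻¹) * h⁻¹ by group]
      exact ⟨hhS _ ih, L.mul_mem (L.mul_mem hhL ih.2) (L.inv_mem hhL)⟩
  -- `h` is transitive modulo the centre
  have htr' : ∀ e ∈ B ⊓ L, e ∉ cenL L → ∀ e' ∈ B ⊓ L, e' ∉ cenL L →
      ∃ i : ℕ, e'⁻¹ * (h ^ i * e * (h ^ i)⁻¹) ∈ cenL L := by
    intro e he hec e' he' hec'
    obtain ⟨j, hj⟩ := htr e he hec e' he' hec'
    obtain ⟨i, hi⟩ := hha (hs ^ j) (pow_mem hhsL j) (fun d hd => by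
      induction j with
      | zero => simpa using hd
      | succ j ih =>
        rw [pow_succ', show hs * hs ^ j * d * (hs * hs ^ j)⁻¹ = hs * (hs ^ j * d * (hs ^ j)⁻¹) * hs⁻¹ by group]
        exact hhsE _ (by
          clear hj ih
          induction j with
          | zero => simpa using hd
          | succ j ih =>
            rw [pow_succ', show hs * hs ^ j * d * (hs * hs ^ j)⁻¹ = hs * (hs ^ j * d * (hs ^ j)⁻¹) * hs⁻¹ by group]
            exact hhsE _ ih))
    refine ⟨i, ?_⟩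
    have h1 := mul_mem hj (inv_mem (hi e he))
    rwa [show e'⁻¹ * (hs ^ j * e * (hs ^ j)⁻¹) * ((h ^ i * e * (h ^ i)⁻¹)⁻¹ * (hs ^ j * e * (hs ^ j)⁻¹))⁻¹ =
      e'⁻¹ * (h ^ i * e * (h ^ i)⁻¹) by group] at h1
  -- an element outside acts non-trivially
  have hout : ∀ x ∈ (S : Subgroup Y) ⊓ L, (∀ e ∈ B ⊓ L, e⁻¹ * x ∉ cenL L) → ∃ e ∈ B ⊓ L, x * e ≠ e * x := by
    intro x hx hxW
    by_contra hc
    push Not at hc
    by_cases hy : ∀ e ∈ B ⊓ L, e⁻¹ * x₁ ∉ cenL L
    · obtain ⟨i, a, ha, hi⟩ := hht x hx hxW x₁ hx₁ hy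
      set w := h ^ i * x * (h ^ i)⁻¹ with hw
      set z := a⁻¹ * (x₁⁻¹ * w) with hz
      have hhi : h ^ i ∈ L := pow_mem hhL i
      have hwc : ∀ e ∈ B ⊓ L, w * e = e * w := fun e he => by
        have he' : (h ^ i)⁻¹ * e * h ^ i ∈ B ⊓ L := by
          have hn' : h ^ i ∈ normalizer ((B ⊓ L : Subgroup Y) : Set Y) := mem_normalizer_fintype (hpowE i)
          have := (mem_normalizer_iff.1 (inv_mem hn') e).1 he
          rwa [inv_inv] at this
        calc w * e = h ^ i * (x * ((h ^ i)⁻¹ * e * h ^ i)) * (h ^ i)⁻¹ := by rw [hw]; group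
          _ = e * w := by rw [hc _ he', hw]; group
      refine hne ?_
      have hx₁' : x₁ = w * z⁻¹ * a⁻¹ := by rw [hz]; group
      calc x₁ * e₁ = w * z⁻¹ * (a⁻¹ * e₁) := by rw [hx₁']; group
        _ = w * (z⁻¹ * e₁) * a⁻¹ := by rw [hY.mem_comm (inv_mem ha.1) he₁.1]; group
        _ = (w * e₁) * z⁻¹ * a⁻¹ := by rw [← hcz (inv_mem hi) he₁.2]; group
        _ = e₁ * x₁ := by rw [hwc e₁ he₁, hx₁']; group
    · push Not at hy
      obtain ⟨a, ha, hz⟩ := hy
      refine hne ?_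
      calc x₁ * e₁ = a * ((a⁻¹ * x₁) * e₁) := by group
        _ = (a * e₁) * (a⁻¹ * x₁) := by rw [← hcz hz he₁.2]; group
        _ = e₁ * x₁ := by rw [hY.mem_comm ha.1 he₁.1]; group
  refine ⟨fun b hb => hY.normalises hBS hmv.1 hb, fun b hb => ?_, ?_, fun e he her => ?_, fun u huB huL hu2 huR b hb => ?_⟩
  · obtain ⟨e, he, hc⟩ := hC.span b hb
    rw [show b = e * (e⁻¹ * b) by group]
    exact mul_mem (mem_sup_left he.2) (mem_sup_right hc)
  · refine le_antisymm (fun b hb => ?_) (sup_le inf_le_left inf_le_left)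
    obtain ⟨e, he, hc⟩ := hC.span b hb
    rw [show b = e * (e⁻¹ * b) by group]
    exact mul_mem (mem_sup_left he) (mem_sup_right ⟨B.mul_mem (B.inv_mem he.1) hb, hc⟩)
  · obtain ⟨e₀, he₀, hz₀⟩ := hC.sq x₀ hx₀
    have he₀c : e₀ ∉ cenL L := fun hc => by
      obtain ⟨e', he', hc'⟩ := hC.invol x₀ hx₀ (by
        have := mul_mem hc hz₀
        rwa [mul_inv_cancel_left] at this)
      exact hx₀W e' he' hc'
    have hec : e ∉ cenL L := fun hc => her ⟨he.1, hc.2⟩
    obtain ⟨i, hi⟩ := htr' e₀ he₀ he₀c e he hec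
    set x := h ^ i * x₀ * (h ^ i)⁻¹ with hx
    have hxS : x ∈ (S : Subgroup Y) ⊓ L := hpowS i x₀ hx₀
    have hxN : x ∈ normalizer (B : Set Y) := mem_normalizer_fintype fun b hb => hY.sylow_conj hBS hxS.1 hb
    have hxW : ∀ a ∈ B ⊓ L, a⁻¹ * x ∉ cenL L := fun a ha hc => by
      have hn' : h ^ i ∈ normalizer ((B ⊓ L : Subgroup Y) : Set Y) := mem_normalizer_fintype (hpowE i)
      have ha' : (h ^ i)⁻¹ * a * h ^ i ∈ B ⊓ L := by
        have := (mem_normalizer_iff.1 (inv_mem hn') a).1 ha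
        rwa [inv_inv] at this
      refine hx₀W _ ha' ?_
      have hcc := hcz hc (inv_mem (pow_mem hhL i))
      rw [show ((h ^ i)⁻¹ * a * h ^ i)⁻¹ * x₀ = (h ^ i)⁻¹ * (a⁻¹ * x) * h ^ i by rw [hx]; group, hcc]
      rw [inv_mul_cancel_right]
      exact hc
    set e' := h ^ i * e₀ * (h ^ i)⁻¹ with he'
    have hhi : h ^ i ∈ L := pow_mem hhL i
    have hxx : x * x = e' * (e₀⁻¹ * (x₀ * x₀)) := by
      calc x * x = e' * (h ^ i * (e₀⁻¹ * (x₀ * x₀)) * (h ^ i)⁻¹) := by rw [hx, he']; group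
        _ = _ := by rw [hcz hz₀ hhi, mul_inv_cancel_right]
    have he'E : e' ∈ B ⊓ L := hpowE i e₀ he₀
    refine ⟨x, hxS.2, hxN, ?_, fun r hr => hlR hr hxS.2,
      ⟨e', he'E.1, ⟨B.mul_mem (B.inv_mem he.1) he'E.1, hi.2⟩, ?_⟩, fun b hb => ?_, fun hall => ?_⟩
    · refine mem_centralizer_iff.2 fun b hb => ?_
      obtain ⟨a, ha, hc⟩ := hC.span b hb
      have hr : a⁻¹ * b ∈ rPart B L := ⟨B.mul_mem (B.inv_mem ha.1) hb, hc⟩
      have h1 : (x * x) * (a⁻¹ * b) = (a⁻¹ * b) * (x * x) := hlR hr (mul_mem hxS.2 hxS.2)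
      have h2 : (x * x) * a = a * (x * x) := by
        rw [hxx, mul_assoc, ← hcz hz₀ ha.2, ← mul_assoc, hY.mem_comm he'E.1 ha.1, mul_assoc]
      calc b * (x * x) = a * ((a⁻¹ * b) * (x * x)) := by group
        _ = (a * (x * x)) * (a⁻¹ * b) := by rw [← h1]; group
        _ = x * x * b := by rw [← h2]; group
    · -- `x` commutes with its square
      have hz := hcz hz₀ hxS.2
      have h1 : e' = x * x * (e₀⁻¹ * (x₀ * x₀))⁻¹ := by rw [hxx, mul_inv_cancel_right]
      rw [h1]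
      calc x * (x * x * (e₀⁻¹ * (x₀ * x₀))⁻¹) = x * x * (x * (e₀⁻¹ * (x₀ * x₀))⁻¹) := by group
        _ = x * x * ((e₀⁻¹ * (x₀ * x₀))⁻¹ * x) := by rw [hcz (inv_mem hz₀) hxS.2]
        _ = _ := by group
    · obtain ⟨a, ha, hc⟩ := hC.span b hb
      have h1 : ⁅x, b⁆ = ⁅x, a⁆ := by
        rw [commutatorElement_def, commutatorElement_def]
        have := mem_centralizer_iff.1 (inv_mem hc) _ (inv_mem hxS.2)
        calc x * b * x⁻¹ * b⁻¹ = x * a * ((a⁻¹ * b) * x⁻¹) * (a⁻¹ * b)⁻¹ * a⁻¹ := by group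
          _ = _ := by rw [← mem_centralizer_iff.1 hc _ (inv_mem hxS.2)]; group
      rw [h1]
      refine ⟨?_, ?_⟩
      · rw [commutatorElement_def]
        exact B.mul_mem ((mem_normalizer_iff.1 hxN a).1 ha.1) (B.inv_mem ha.1)
      · have := (centralizer (L : Set Y)).inv_mem (hC.central x hxS a ha).2
        rwa [commutatorElement_inv] at this
    · obtain ⟨a, ha, hne'⟩ := hout x hxS hxW
      exact hne' (hall a ha.1)
  · -- rigidity
    obtain ⟨a, ha, hc⟩ := hC.span b hb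
    have huE : ∀ e ∈ B ⊓ L, u * e * u⁻¹ ∈ B ⊓ L := fun e he =>
      ⟨(mem_normalizer_iff.1 huB e).1 he.1, (mem_normalizer_iff.1 huL e).1 he.2⟩
    letI : CommGroup ↥(B ⊓ L) :=
      { (inferInstance : Group ↥(B ⊓ L)) with mul_comm := fun a b => Subtype.ext (hY.mem_comm a.2.1 b.2.1) }
    set K := (cenL L).subgroupOf (B ⊓ L) with hK
    have hmk : ∀ p r : ↥(B ⊓ L), (QuotientGroup.mk p : ↥(B ⊓ L) ⧸ K) = QuotientGroup.mk r ↔
        (p : Y)⁻¹ * r ∈ cenL L := fun p r => by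
      rw [QuotientGroup.eq, hK, mem_subgroupOf]
      rfl
    -- the automorphism of the quotient
    let M : Subgroup Y := normalizer ((B ⊓ L : Subgroup Y) : Set Y) ⊓ centralizer ((B ⊓ cenL L : Subgroup Y) : Set Y)
    let act : M → MulAut (↥(B ⊓ L) ⧸ K) := fun m =>
      QuotientGroup.congr K K (Subgroup.normalizerMonoidHom (B ⊓ L) ⟨m, m.2.1⟩) (by
        refine Subgroup.eq_of_le_of_card_ge ?_ (Subgroup.card_map_of_injective
          (f := (Subgroup.normalizerMonoidHom (B ⊓ L) ⟨m, m.2.1⟩ : MulAut ↥(B ⊓ L)).toMonoidHom)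
          (MulEquiv.injective _)).ge
        rintro _ ⟨e, he, rfl⟩
        show (m : Y) * (e : Y) * (m : Y)⁻¹ ∈ cenL L
        rw [← mem_centralizer_iff.1 m.2.2 (e : Y) ⟨e.2.1, he⟩, mul_inv_cancel_right]
        exact he)
    have hact : ∀ (m : M) (e : ↥(B ⊓ L)), act m (QuotientGroup.mk e) =
        QuotientGroup.mk (Subgroup.normalizerMonoidHom (B ⊓ L) ⟨m, m.2.1⟩ e) := fun _ _ => rfl
    let f : M →* MulAut (↥(B ⊓ L) ⧸ K) := MonoidHom.mk' act fun m m' => MulEquiv.ext fun w => by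
      obtain ⟨e, rfl⟩ := QuotientGroup.mk'_surjective K w
      show act (m * m') (QuotientGroup.mk e) = act m (act m' (QuotientGroup.mk e))
      rw [hact, hact, hact]
      congr 1
      refine Subtype.ext ?_
      show ((m * m' : M) : Y) * e * ((m * m' : M) : Y)⁻¹ = (m : Y) * ((m' : Y) * e * (m' : Y)⁻¹) * (m : Y)⁻¹
      push_cast
      group
    have hhM : h ∈ M := ⟨mem_normalizer_fintype hhE,
      mem_centralizer_iff.2 fun r hr => (hlR ⟨hr.1, hr.2.2⟩ hhL).symm⟩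
    have huM : u ∈ M := ⟨mem_normalizer_fintype huE,
      mem_centralizer_iff.2 fun r hr => (huR r ⟨hr.1, hr.2.2⟩).symm⟩
    have hnL : u * h * u⁻¹ ∈ L := (mem_normalizer_iff.1 huL h).1 hhL
    obtain ⟨j, hj⟩ := hha _ hnL fun e he =>
      (mem_normalizer_iff.1 (mul_mem (mul_mem huM.1 hhM.1) (inv_mem huM.1)) e).1 he
    have hcardV : Nat.card (↥(B ⊓ L) ⧸ K) = 2 ^ n := by
      have h1 := K.card_mul_index
      rw [Subgroup.index, show Nat.card K = Nat.card ↥(B ⊓ cenL L) from Nat.card_congr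
        ⟨fun x => ⟨((x.1 : ↥(B ⊓ L)) : Y), x.1.2.1, mem_subgroupOf.1 x.2⟩,
          fun x => ⟨⟨(x : Y), (mem_inf_cenL.1 x.2).1⟩, mem_subgroupOf.2 x.2.2⟩, fun _ => rfl, fun _ => rfl⟩,
        hC.card, mul_comm q, hqn] at h1
      exact Nat.eq_of_mul_eq_mul_left Nat.card_pos h1
    have hone : f ⟨u, huM⟩ = 1 := by
      refine trivial_of_regular (V := ↥(B ⊓ L) ⧸ K) (fun w => ?_) hn hcardV (c := f ⟨h, hhM⟩) (fun v w hv hw => ?_) ?_
        (j := j) ?_
      · obtain ⟨e, rfl⟩ := QuotientGroup.mk'_surjective K w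
        rw [← map_mul, show e * e = 1 from Subtype.ext (hY.mul_self e.2.1), map_one]
      · obtain ⟨e, rfl⟩ := QuotientGroup.mk'_surjective K v
        obtain ⟨e', rfl⟩ := QuotientGroup.mk'_surjective K w
        obtain ⟨i, hi⟩ := htr' e e.2 (fun hc => hv ((QuotientGroup.eq_one_iff _).2 (mem_subgroupOf.2 hc))) e' e'.2
          (fun hc => hw ((QuotientGroup.eq_one_iff _).2 (mem_subgroupOf.2 hc)))
        refine ⟨i, ?_⟩
        rw [← map_pow]
        show act _ (QuotientGroup.mk e) = QuotientGroup.mk e'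
        rw [hact]
        refine ((hmk _ _).2 ?_).symm
        show (e' : Y)⁻¹ * (h ^ i * (e : Y) * (h ^ i)⁻¹) ∈ cenL L
        exact hi
      · rw [← map_mul]
        refine MulEquiv.ext fun w => ?_
        obtain ⟨e, rfl⟩ := QuotientGroup.mk'_surjective K w
        show act _ (QuotientGroup.mk e) = QuotientGroup.mk e
        rw [hact]
        congr 1
        refine Subtype.ext ?_
        show u * u * (e : Y) * (u * u)⁻¹ = e
        rw [← mem_centralizer_iff.1 hu2 e e.2.1, mul_inv_cancel_right]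
      · rw [← map_inv, ← map_mul, ← map_mul, ← map_pow]
        refine MulEquiv.ext fun w => ?_
        obtain ⟨e, rfl⟩ := QuotientGroup.mk'_surjective K w
        show act _ (QuotientGroup.mk e) = act _ (QuotientGroup.mk e)
        rw [hact, hact]
        refine ((hmk _ _).2 ?_).symm
        show (h ^ j * (e : Y) * (h ^ j)⁻¹)⁻¹ * (u * h * u⁻¹ * (e : Y) * (u * h * u⁻¹)⁻¹) ∈ cenL L
        exact hj e e.2
    have h1 := congrArg (fun γ : MulAut (↥(B ⊓ L) ⧸ K) => γ (QuotientGroup.mk ⟨a, ha⟩)) hone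
    change act ⟨u, huM⟩ (QuotientGroup.mk ⟨a, ha⟩) = QuotientGroup.mk ⟨a, ha⟩ at h1
    rw [hact] at h1
    have h2 : a⁻¹ * (u * a * u⁻¹) ∈ cenL L := (hmk _ _).1 h1.symm
    have hr : a⁻¹ * b ∈ rPart B L := ⟨B.mul_mem (B.inv_mem ha.1) hb, hc⟩
    have hua := (huE a ha).1
    have hcomm : ⁅u, b⁆ = a⁻¹ * (u * a * u⁻¹) := by
      rw [commutatorElement_def, hY.mem_comm (inv_mem ha.1) hua]
      have h3 : u * (a⁻¹ * b) * u⁻¹ = a⁻¹ * b := by rw [huR _ hr, mul_inv_cancel_right]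
      calc u * b * u⁻¹ * b⁻¹ = (u * a * u⁻¹) * (u * (a⁻¹ * b) * u⁻¹) * b⁻¹ := by group
        _ = _ := by rw [h3]; group
    rw [hcomm]
    exact ⟨B.mul_mem (B.inv_mem ha.1) hua, h2.2⟩

end LocalHyp

end Cfsg.Agent.Goldschmidt
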