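import Cfsg.Agent.Lib.Goldschmidt.Local.Coord
import Mathlib.Algebra.BigOperators.Finprod

/-!
# A moved component splits the strongly closed group, unless it is a cover of a Suzuki group

An element of odd order, regular on the involutions modulo the centre, splits `B ⊓ L`; the split is canonical unless a
Sylow 2-subgroup of the component acts non-trivially on `B ⊓ L`.
-/

set_option autoImplicit false
set_option linter.style.haveILetI false
set_option linter.unusedSectionVars false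

namespace Cfsg.Agent.Goldschmidt

open Subgroup Cfsg.Agent Cfsg.Agent.Fusion
open scoped commutatorElement

universe u

variable {Y : Type u} [Group Y] [Finite Y] {B L : Subgroup Y}

omit [Finite Y] in
theorem mem_inf_cenL {e : Y} : e ∈ B ⊓ cenL L ↔ e ∈ B ⊓ L ∧ e ∈ centralizer (L : Set Y) := by
  simp only [cenL, Subgroup.mem_inf, and_assoc]

/-- The split by an element of odd order. -/
structure Split (B L Th : Subgroup Y) (q : ℕ) (h : Y) : Prop where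
  le : Th ≤ B ⊓ L
  le_tPart : Th ≤ tPart B L
  disj : ∀ t ∈ Th, t ∈ centralizer (L : Set Y) → t = 1
  cover : ∀ e ∈ B ⊓ L, ∃ t ∈ Th, t⁻¹ * e ∈ cenL L
  card : Nat.card Th = q
  torus : IsTorus B L Th (rPart B L) h

namespace LocalHyp

variable (hY : LocalHyp Y B) {S : Sylow 2 Y} (hBS : B ≤ (S : Subgroup Y))
include hY hBS

omit hBS in
theorem exists_split {q : ℕ} (hC : Coord B L S q) : ∃ (Th : Subgroup Y) (h : Y), Split B L Th q h := by
  classical
  obtain ⟨h, hhL, hodd, hhE, htr, hfix⟩ := hC.turn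
  have hcomm : ∀ a ∈ B ⊓ L, ∀ b ∈ B ⊓ L, a * b = b * a := fun a ha b hb => hY.mem_comm ha.1 hb.1
  have hhc : ∀ r ∈ centralizer (L : Set Y), h * r = r * h := fun r hr => mem_centralizer_iff.1 hr h hhL
  have hKfix : ∀ e ∈ B ⊓ cenL L, h * e * h⁻¹ = e := fun e he => by
    rw [hhc e (mem_inf_cenL.1 he).2, mul_inv_cancel_right]
  have hmove : ∀ (e : Y) (he : e ∈ B ⊓ L), h * e * h⁻¹ = e → e ∈ cenL L := by
    intro e he hee
    by_contra hec
    have hpow : ∀ i : ℕ, h ^ i * e * (h ^ i)⁻¹ = e := by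
      intro i
      induction i with
      | zero => simp
      | succ i ih =>
        calc h ^ (i + 1) * e * (h ^ (i + 1))⁻¹ = h * (h ^ i * e * (h ^ i)⁻¹) * h⁻¹ := by rw [pow_succ']; group
          _ = e := by rw [ih, hee]
    -- every element is congruent to one or `e`
    have hK : ∀ e' ∈ B ⊓ L, e' ∈ cenL L ∨ e'⁻¹ * e ∈ cenL L := fun e' he' => by
      by_cases hc : e' ∈ cenL L
      · exact Or.inl hc
      obtain ⟨i, hi⟩ := htr e he hec e' he' hc
      rw [hpow] at hi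
      exact Or.inr hi
    let g : ↥(B ⊓ cenL L) ⊕ ↥(B ⊓ cenL L) → ↥(B ⊓ L) := Sum.elim (fun z => ⟨z, (mem_inf_cenL.1 z.2).1⟩)
      fun z => ⟨e * z, mul_mem he (mem_inf_cenL.1 z.2).1⟩
    have hg : Function.Surjective g := fun e' => by
      rcases hK e' e'.2 with hc | hc
      · exact ⟨Sum.inl ⟨e', e'.2.1, hc⟩, rfl⟩
      · refine ⟨Sum.inr ⟨e⁻¹ * e', B.mul_mem (B.inv_mem he.1) e'.2.1, ?_⟩, Subtype.ext (mul_inv_cancel_left _ _)⟩
        have := inv_mem hc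
        simpa using this
    have h1 := Nat.card_le_card_of_surjective g hg
    rw [Nat.card_sum, hC.card] at h1
    have h4 := hC.four
    have hpos : 0 < Nat.card ↥(B ⊓ cenL L) := Nat.card_pos
    nlinarith
  let σ : ↥(B ⊓ L) →* ↥(B ⊓ L) := MonoidHom.mk'
    (fun e => ⟨h * e * h⁻¹ * (e : Y)⁻¹, mul_mem (hhE e e.2) (inv_mem e.2)⟩) fun a b => Subtype.ext (by
      show h * ((a * b : ↥(B ⊓ L)) : Y) * h⁻¹ * ((a * b : ↥(B ⊓ L)) : Y)⁻¹ =
        h * a * h⁻¹ * (a : Y)⁻¹ * (h * b * h⁻¹ * (b : Y)⁻¹)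
      push_cast
      have hc := hcomm _ (inv_mem a.2) _ (mul_mem (hhE b b.2) (inv_mem b.2))
      calc h * ((a : Y) * b) * h⁻¹ * ((a : Y) * b)⁻¹
          = h * a * h⁻¹ * ((h * b * h⁻¹ * (b : Y)⁻¹) * (a : Y)⁻¹) := by group
        _ = _ := by rw [← hc]; group)
  have hσ : ∀ e : ↥(B ⊓ L), ((σ e : ↥(B ⊓ L)) : Y) = h * e * h⁻¹ * (e : Y)⁻¹ := fun _ => rfl
  have hσker : ∀ e : ↥(B ⊓ L), σ e = 1 ↔ (e : Y) ∈ cenL L := fun e => by
    rw [Subtype.ext_iff, hσ, OneMemClass.coe_one, mul_inv_eq_one]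
    exact ⟨fun he => hmove e e.2 he, fun he => hKfix e ⟨e.2.1, he⟩⟩
  -- no element of the range is fixed
  have hinj : ∀ e : ↥(B ⊓ L), σ (σ e) = 1 → σ e = 1 := by
    intro e he
    set d := ((σ e : ↥(B ⊓ L)) : Y) with hd
    have hde : h * (e : Y) * h⁻¹ = d * e := by rw [hd, hσ]; group
    have hdf : h * d * h⁻¹ = d := hKfix d ⟨(σ e).2.1, (hσker _).1 he⟩
    have hn : ∀ n : ℕ, h ^ n * (e : Y) * (h ^ n)⁻¹ = d ^ n * e := by
      intro n
      induction n with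
      | zero => simp
      | succ n ih =>
        calc h ^ (n + 1) * (e : Y) * (h ^ (n + 1))⁻¹ = h * (h ^ n * (e : Y) * (h ^ n)⁻¹) * h⁻¹ := by
              rw [pow_succ']; group
          _ = (h * d * h⁻¹) ^ n * (h * e * h⁻¹) := by rw [ih, conj_pow]; group
          _ = d ^ (n + 1) * e := by rw [hdf, hde, ← mul_assoc, ← pow_succ]
    have h1 := hn (orderOf h)
    rw [pow_orderOf_eq_one, one_mul, inv_one, mul_one, right_eq_mul] at h1
    obtain ⟨m, hm⟩ := hodd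
    rw [hm, pow_succ, pow_mul, pow_two, hY.mul_self (σ e).2.1, one_pow, one_mul] at h1
    exact Subtype.ext h1
  set Th := σ.range.map (B ⊓ L).subtype with hTh
  have hThle : Th ≤ B ⊓ L := map_subtype_le _
  have hmem : ∀ t, t ∈ Th ↔ ∃ e : ↥(B ⊓ L), ((σ e : ↥(B ⊓ L)) : Y) = t := fun t => by
    simp only [hTh, mem_map, MonoidHom.mem_range, coe_subtype]
    exact ⟨fun ⟨_, ⟨e, rfl⟩, h⟩ => ⟨e, h⟩, fun ⟨e, h⟩ => ⟨_, ⟨e, rfl⟩, h⟩⟩
  have hdisj : ∀ t ∈ Th, t ∈ centralizer (L : Set Y) → t = 1 := fun t ht htc => by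
    obtain ⟨e, rfl⟩ := (hmem t).1 ht
    rw [hinj e ((hσker _).2 ⟨(σ e).2.2, htc⟩), OneMemClass.coe_one]
  have hres : Function.Bijective (fun t : σ.range => (⟨σ t.1, ⟨t.1, rfl⟩⟩ : σ.range)) := by
    refine Finite.injective_iff_bijective.1 fun s t e => ?_
    have e1 : σ s.1 = σ t.1 := congrArg Subtype.val e
    obtain ⟨a, ha⟩ := s.2
    obtain ⟨b, hb⟩ := t.2
    have h2 := hinj (a * b⁻¹) (by rw [map_mul, map_inv, ha, hb, map_mul, map_inv, e1, mul_inv_cancel])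
    rw [map_mul, map_inv, ha, hb, mul_inv_eq_one] at h2
    exact Subtype.ext h2
  have hcover : ∀ e ∈ B ⊓ L, ∃ t ∈ Th, t⁻¹ * e ∈ cenL L := by
    intro e he
    obtain ⟨t, ht⟩ := hres.2 ⟨σ ⟨e, he⟩, ⟨_, rfl⟩⟩
    have ht' : σ t.1 = σ ⟨e, he⟩ := congrArg Subtype.val ht
    refine ⟨(t.1 : Y), ⟨t.1, t.2, rfl⟩, ?_⟩
    have := (hσker (t.1⁻¹ * ⟨e, he⟩)).1 (by rw [map_mul, map_inv, ht', inv_mul_cancel])
    simpa using this
  have hcard : Nat.card Th = q := by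
    rw [hTh, Subgroup.card_map_of_injective (Subgroup.subtype_injective _)]
    have h1 := σ.ker.card_mul_index
    rw [Subgroup.index, Nat.card_congr (QuotientGroup.quotientKerEquivRange σ).toEquiv, hC.card,
      show Nat.card σ.ker = Nat.card ↥(B ⊓ cenL L) from Nat.card_congr
        ⟨fun x => ⟨(x.1 : Y), x.1.2.1, (hσker _).1 (MonoidHom.mem_ker.1 x.2)⟩,
          fun x => ⟨⟨(x : Y), (mem_inf_cenL.1 x.2).1⟩, MonoidHom.mem_ker.2 ((hσker _).2 x.2.2)⟩,
          fun _ => rfl, fun _ => rfl⟩, mul_comm q] at h1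
    exact Nat.eq_of_mul_eq_mul_left Nat.card_pos h1
  have hThh : ∀ t ∈ Th, h * t * h⁻¹ ∈ Th := fun t ht => by
    obtain ⟨e, rfl⟩ := (hmem t).1 ht
    refine (hmem _).2 ⟨⟨h * e * h⁻¹, hhE e e.2⟩, ?_⟩
    rw [hσ, hσ]
    group
  have hThp : ∀ (i : ℕ), ∀ t ∈ Th, h ^ i * t * (h ^ i)⁻¹ ∈ Th := by
    intro i t ht
    induction i with
    | zero => simpa using ht
    | succ i ih =>
      rw [pow_succ', show h * h ^ i * t * (h * h ^ i)⁻¹ = h * (h ^ i * t * (h ^ i)⁻¹) * h⁻¹ by group]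
      exact hThh _ ih
  have huniq : ∀ s ∈ Th, ∀ t ∈ Th, t⁻¹ * s ∈ cenL L → s = t := fun s hs t ht hc =>
    (inv_mul_eq_one.1 (hdisj _ (mul_mem (inv_mem ht) hs) hc.2)).symm
  refine ⟨Th, h, ⟨hThle, fun t ht => ?_, hdisj, hcover, hcard, hhL, ?_, fun r hr => hhc r hr.2, hThh,
    fun t ht => ?_, fun t ht ht1 t' ht' ht'1 => ?_⟩⟩
  · obtain ⟨e, rfl⟩ := (hmem t).1 ht
    rw [hσ]
    have h1 : ⁅(e : Y), h⁆ ∈ tPart B L :=
      commutator_mem_commutator e.2 ⟨hhL, mem_normalizer_fintype fun x hx => hhE x hx⟩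
    have h2 := inv_mem h1
    rwa [commutatorElement_inv, commutatorElement_def] at h2
  · refine mem_normalizer_fintype fun b hb => ?_
    obtain ⟨e, he, hec⟩ := hC.span b hb
    show h * b * h⁻¹ ∈ B
    rw [show h * b * h⁻¹ = (h * e * h⁻¹) * (h * (e⁻¹ * b) * h⁻¹) by group, hhc _ hec, mul_inv_cancel_right]
    exact mul_mem (hhE e he).1 (mul_mem (inv_mem he.1) hb)
  · rw [hcard]
    have h1 := hfix t (hThle ht)
    have h2 := huniq _ (hThp _ t ht) t ht h1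
    exact mul_inv_eq_iff_eq_mul.1 h2
  · have hout : ∀ u ∈ Th, u ≠ 1 → u ∉ cenL L := fun u hu hu1 hc => hu1 (hdisj u hu hc.2)
    obtain ⟨i, hi⟩ := htr t (hThle ht) (hout t ht ht1) t' (hThle ht') (hout t' ht' ht'1)
    exact ⟨i, huniq _ (hThp i t ht) t' ht' hi⟩

omit hBS in
theorem tPart_le {q : ℕ} (hC : Coord B L S q) : tPart B L ≤ B ⊓ L := by
  rw [tPart, commutator_le]
  intro e he n hn
  rw [commutatorElement_def]
  have h1 : n * e⁻¹ * n⁻¹ ∈ B ⊓ L := (mem_normalizer_iff.1 hn.2 _).1 (inv_mem he)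
  rw [show e * n * e⁻¹ * n⁻¹ = e * (n * e⁻¹ * n⁻¹) by group]
  exact mul_mem he h1

/-- The Sylow subgroup of `L` normalises `B ⊓ L`. -/
theorem sylow_norm {x : Y} (hx : x ∈ (S : Subgroup Y) ⊓ L) : x ∈ normalizer ((B ⊓ L : Subgroup Y) : Set Y) :=
  mem_normalizer_fintype fun e he =>
    ⟨hY.sylow_conj hBS hx.1 he.1, L.mul_mem (L.mul_mem hx.2 he.2) (L.inv_mem hx.2)⟩

/-- If the Sylow subgroup of `L` centralises `B ⊓ L`, the automorphisms induced on it have odd order. -/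
theorem odd_autos (hL : Cfsg.IsComponent L) (hcen : ∀ x ∈ (S : Subgroup Y) ⊓ L, ∀ e ∈ B ⊓ L, x * e = e * x) :
    Odd (Nat.card ((Subgroup.normalizerMonoidHom (B ⊓ L)).comp (Subgroup.inclusion
      (inf_le_right : L ⊓ normalizer ((B ⊓ L : Subgroup Y) : Set Y) ≤ _))).range) := by
  set N := L ⊓ normalizer ((B ⊓ L : Subgroup Y) : Set Y) with hN
  set f : N →* MulAut ↥(B ⊓ L) :=
    (Subgroup.normalizerMonoidHom (B ⊓ L)).comp (Subgroup.inclusion (inf_le_right : N ≤ _)) with hf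
  rw [← Nat.card_congr (QuotientGroup.quotientKerEquivRange f).toEquiv, ← Subgroup.index]
  have hP := CI.comp_sylIn hL S
  have hle : (((S : Subgroup Y) ⊓ L).subgroupOf N) ≤ f.ker := fun x hx => MonoidHom.mem_ker.2
    (MulEquiv.ext fun e => Subtype.ext (by
      show (x : Y) * e * (x : Y)⁻¹ = e
      have hh : (x : Y) * (e : Y) = e * x := hcen _ hx e e.2
      rw [hh, mul_inv_cancel_right]))
  have hSN : (S : Subgroup Y) ⊓ L ≤ N := le_inf inf_le_right fun x hx => hY.sylow_norm hBS hx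
  have h1 : f.ker.index ∣ ((S : Subgroup Y) ⊓ L).relIndex N := Subgroup.index_dvd_of_le hle
  have h2 : ((S : Subgroup Y) ⊓ L).relIndex N ∣ ((S : Subgroup Y) ⊓ L).relIndex L :=
    ⟨N.relIndex L, (Subgroup.relIndex_mul_relIndex _ _ _ hSN inf_le_left).symm⟩
  exact Nat.not_even_iff_odd.1 fun he => hP.not_dvd ((he.two_dvd.trans h1).trans h2)

/-- An inner element with square centralising `B` centralises `B ⊓ L`. -/
theorem inner_invol (hL : Cfsg.IsComponent L) (hcen : ∀ x ∈ (S : Subgroup Y) ⊓ L, ∀ e ∈ B ⊓ L, x * e = e * x)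
    {l c : Y} (hl : l ∈ L) (hc : c ∈ centralizer (L : Set Y)) (huB : l * c ∈ normalizer (B : Set Y))
    (hu2 : l * c * (l * c) ∈ centralizer (B : Set Y)) : ∀ e ∈ B ⊓ L, l * c * e = e * (l * c) := by
  have hce : ∀ e ∈ L, c * e * c⁻¹ = e := fun e he => by
    rw [← mem_centralizer_iff.1 hc e he, mul_inv_cancel_right]
  have hconj : ∀ e ∈ B ⊓ L, l * c * e * (l * c)⁻¹ = l * e * l⁻¹ := fun e he => by
    calc l * c * e * (l * c)⁻¹ = l * (c * e * c⁻¹) * l⁻¹ := by group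
      _ = _ := by rw [hce e he.2]
  have hlE : ∀ e ∈ B ⊓ L, l * e * l⁻¹ ∈ B ⊓ L := fun e he =>
    ⟨hconj e he ▸ (mem_normalizer_iff.1 huB e).1 he.1, L.mul_mem (L.mul_mem hl he.2) (L.inv_mem hl)⟩
  set N := L ⊓ normalizer ((B ⊓ L : Subgroup Y) : Set Y) with hN
  set f : N →* MulAut ↥(B ⊓ L) :=
    (Subgroup.normalizerMonoidHom (B ⊓ L)).comp (Subgroup.inclusion (inf_le_right : N ≤ _)) with hf
  set n : N := ⟨l, hl, mem_normalizer_fintype fun e he => hlE e he⟩ with hn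
  have hsq : f n * f n = 1 := MulEquiv.ext fun e => Subtype.ext (by
    show l * (l * e * l⁻¹) * l⁻¹ = (e : Y)
    rw [← hconj e e.2, ← hconj _ ⟨(mem_normalizer_iff.1 huB e).1 e.2.1, by
      rw [hconj e e.2]; exact (hlE e e.2).2⟩]
    calc l * c * (l * c * (e : Y) * (l * c)⁻¹) * (l * c)⁻¹ = (l * c * (l * c)) * e * (l * c * (l * c))⁻¹ := by group
      _ = e := by rw [← mem_centralizer_iff.1 hu2 e e.2.1, mul_inv_cancel_right])
  have hone : f n = 1 := by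
    obtain ⟨m, hm⟩ := (hY.odd_autos hBS hL hcen).of_dvd_nat
      (Subgroup.orderOf_dvd_natCard (s := f.range) ⟨n, rfl⟩)
    have h1 := pow_orderOf_eq_one (f n)
    rw [hm, pow_succ, pow_mul, pow_two, hsq, one_pow, one_mul] at h1
    exact h1
  intro e he
  have h1 := congrArg (fun γ : MulAut ↥(B ⊓ L) => ((γ ⟨e, he⟩ : ↥(B ⊓ L)) : Y)) hone
  change l * e * l⁻¹ = e at h1
  rw [← hconj e he] at h1
  exact mul_inv_eq_iff_eq_mul.1 h1

/-- If the Sylow subgroup of `L` centralises `B ⊓ L`, the split is canonical. -/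
theorem disj_of_comm (hL : Cfsg.IsComponent L) {q : ℕ} (hC : Coord B L S q)
    (hcen : ∀ x ∈ (S : Subgroup Y) ⊓ L, ∀ e ∈ B ⊓ L, x * e = e * x) :
    tPart B L ⊓ rPart B L = ⊥ := by
  classical
  letI : CommGroup ↥(B ⊓ L) :=
    { (inferInstance : Group ↥(B ⊓ L)) with mul_comm := fun a b => Subtype.ext (hY.mem_comm a.2.1 b.2.1) }
  set N := L ⊓ normalizer ((B ⊓ L : Subgroup Y) : Set Y) with hN
  let f : N →* MulAut ↥(B ⊓ L) :=
    (Subgroup.normalizerMonoidHom (B ⊓ L)).comp (Subgroup.inclusion (inf_le_right : N ≤ _))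
  have hf : ∀ (n : N) (e : ↥(B ⊓ L)), ((f n e : ↥(B ⊓ L)) : Y) = (n : Y) * e * (n : Y)⁻¹ := fun _ _ => rfl
  haveI := Fintype.ofFinite f.range
  let F : ↥(B ⊓ L) →* ↥(B ⊓ L) := ∏ γ : f.range, (γ.1 : ↥(B ⊓ L) ≃* ↥(B ⊓ L)).toMonoidHom
  have hF : ∀ e, F e = ∏ γ : f.range, (γ.1 : ↥(B ⊓ L) ≃* ↥(B ⊓ L)) e := fun e => by
    simp [F, MonoidHom.finsetProd_apply]
  have hinv : ∀ (n : N) e, F (f n e) = F e := fun n e => by
    rw [hF, hF]
    exact Fintype.prod_equiv (Equiv.mulRight ⟨f n, n, rfl⟩) _ _ fun γ => rfl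
  have hodd : Odd (Nat.card f.range) := hY.odd_autos hBS hL hcen
  have hker : tPart B L ≤ F.ker.map (B ⊓ L).subtype := by
    rw [tPart, commutator_le]
    intro e he n hn
    refine ⟨(⟨e, he⟩ : ↥(B ⊓ L)) * f ⟨n, hn⟩ ⟨e, he⟩⁻¹, ?_, ?_⟩
    · rw [SetLike.mem_coe, MonoidHom.mem_ker, map_mul, hinv, ← map_mul, mul_inv_cancel, map_one]
    · rw [coe_subtype, Subgroup.coe_mul, hf, commutatorElement_def]
      push_cast
      group
  rw [eq_bot_iff]
  intro t ht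
  obtain ⟨s, hs, rfl⟩ := hker ht.1
  have hfix : ∀ γ : f.range, (γ.1 : ↥(B ⊓ L) ≃* ↥(B ⊓ L)) s = s := by
    rintro ⟨_, n, rfl⟩
    refine Subtype.ext ?_
    have hh : (n : Y) * (s : Y) = s * n := mem_centralizer_iff.1 ht.2.2 _ n.2.1
    rw [hf, hh, mul_inv_cancel_right]
  have h1 : F s = 1 := MonoidHom.mem_ker.1 hs
  rw [hF, Finset.prod_congr rfl fun γ _ => hfix γ, Finset.prod_const, Finset.card_univ,
    ← Nat.card_eq_fintype_card] at h1
  obtain ⟨m, hm⟩ := hodd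
  have hs2 : s * s = 1 := Subtype.ext (hY.mul_self s.2.1)
  rw [hm, pow_succ, pow_mul, pow_two, hs2, one_pow, one_mul] at h1
  rw [mem_bot, h1, map_one]

/-- An element fixing `B ⊓ L` and moving the rest makes the Sylow subgroup centralise `B ⊓ L`. -/
theorem comm_of_mover {q : ℕ} (hC : Coord B L S q) (hm : MoverIn B L S) :
    ∀ x ∈ (S : Subgroup Y) ⊓ L, ∀ e ∈ B ⊓ L, x * e = e * x := by
  obtain ⟨w, hwL, hwS, hwE, hwx⟩ := hm
  intro x hx e he
  obtain ⟨y, hy, e', he', hc⟩ := hwx x hx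
  have he1 : y⁻¹ * e * y ∈ B ⊓ L := by
    have := (mem_normalizer_iff.1 (inv_mem (hY.sylow_norm hBS hy)) e).1 he
    rwa [inv_inv] at this
  have hwi : ∀ d ∈ B ⊓ L, w⁻¹ * d = d * w⁻¹ := fun d hd => by
    rw [inv_mul_eq_iff_eq_mul, ← mul_assoc, hwE d hd, mul_inv_cancel_right]
  set c := ⁅w, y⁆ with hcdef
  have hce : c * e = e * c := by
    refine mul_inv_eq_iff_eq_mul.1 ?_
    rw [hcdef, commutatorElement_def]
    calc w * y * w⁻¹ * y⁻¹ * e * (w * y * w⁻¹ * y⁻¹)⁻¹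
        = w * y * (w⁻¹ * (y⁻¹ * e * y)) * w * y⁻¹ * w⁻¹ := by group
      _ = w * e * w⁻¹ := by rw [hwi _ he1]; group
      _ = e := by rw [hwE e he, mul_inv_cancel_right]
  set z := e'⁻¹ * (x⁻¹ * c) with hz
  have hx' : x = c * z⁻¹ * e'⁻¹ := by rw [hz]; group
  have hze : z⁻¹ * e = e * z⁻¹ := (mem_centralizer_iff.1 (inv_mem hc).2 e he.2).symm
  have hee : e'⁻¹ * e = e * e'⁻¹ := hY.mem_comm (inv_mem he'.1) he.1
  calc x * e = c * z⁻¹ * (e'⁻¹ * e) := by rw [hx']; group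
    _ = c * (z⁻¹ * e) * e'⁻¹ := by rw [hee]; group
    _ = (c * e) * z⁻¹ * e'⁻¹ := by rw [hze]; group
    _ = e * x := by rw [hce, hx']; group

/-- **A good component.** -/
theorem pairData_of_disj (hmv : Moved B L) {q : ℕ} (hC : Coord B L S q)
    (hd : tPart B L ⊓ rPart B L = ⊥) : PairData B L := by
  classical
  obtain ⟨Th, h, hS⟩ := hY.exists_split hC
  have hsplit : ∀ e ∈ B ⊓ L, ∃ t ∈ Th, ∃ r ∈ rPart B L, e = t * r := fun e he => by
    obtain ⟨t, ht, hc⟩ := hS.cover e he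
    exact ⟨t, ht, t⁻¹ * e, ⟨B.mul_mem (B.inv_mem (hS.le ht).1) he.1, hc.2⟩, by group⟩
  have hT : tPart B L = Th := by
    refine le_antisymm (fun x hx => ?_) hS.le_tPart
    obtain ⟨t, ht, r, hr, rfl⟩ := hsplit x (hY.tPart_le hC hx)
    have h1 : r ∈ tPart B L ⊓ rPart B L := ⟨by
      have := mul_mem (inv_mem (hS.le_tPart ht)) hx
      rwa [inv_mul_cancel_left] at this, hr⟩
    rw [hd, mem_bot] at h1
    rwa [h1, mul_one]
  have hcen : ∀ x ∈ (S : Subgroup Y) ⊓ L, ∀ e ∈ B ⊓ L, x * e = e * x := by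
    intro x hx e he
    have h1 : ⁅e, x⁆ ∈ tPart B L := commutator_mem_commutator he ⟨hx.2, hY.sylow_norm hBS hx⟩
    -- it centralises the component
    have hr : ⁅e, x⁆ ∈ rPart B L := ⟨(hY.tPart_le hC h1).1, (hC.central x hx e he).2⟩
    have h2 : ⁅e, x⁆ ∈ tPart B L ⊓ rPart B L := ⟨h1, hr⟩
    rw [hd, mem_bot, commutatorElement_eq_one_iff_commute] at h2
    exact h2.eq.symm
  refine ⟨fun b hb => hY.normalises hBS hmv.1 hb, fun b hb => ?_, hY.tPart_le hC, hd, ?_, ?_, ?_, ⟨h, ?_⟩⟩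
  · obtain ⟨e, he, hc⟩ := hC.span b hb
    rw [show b = e * (e⁻¹ * b) by group]
    exact mul_mem (mem_sup_left he.2) (mem_sup_right hc)
  · refine le_antisymm (fun b hb => ?_) (sup_le ((hY.tPart_le hC).trans inf_le_left) inf_le_left)
    obtain ⟨e, he, hc⟩ := hC.span b hb
    obtain ⟨t, ht, r, hr, rfl⟩ := hsplit e he
    rw [show b = t * (r * ((t * r)⁻¹ * b)) by group]
    exact mul_mem (mem_sup_left (hS.le_tPart ht))
      (mem_sup_right (mul_mem hr ⟨B.mul_mem (B.inv_mem he.1) hb, hc⟩))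
  · rw [hT, hS.card]; exact hC.four
  · intro u hu huB hu2 t ht
    have hLn : centralizer (L : Set Y) ≤ normalizer (L : Set Y) := centralizer_le_normalizer _
    rw [← SetLike.mem_coe, coe_mul_of_right_le_normalizer_left _ _ hLn] at hu
    obtain ⟨l, hl, c, hc, rfl⟩ := hu
    exact hY.inner_invol hBS hmv.1 hcen hl hc huB hu2 t (hY.tPart_le hC ht)
  · rw [hT]; exact hS.torus

end LocalHyp

end Cfsg.Agent.Goldschmidt
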